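import Groth.Agent.L21.RR.Sections
import Groth.Agent.L21.RR.Finite
import Groth.Agent.L21.RR.RingSections
import Groth.Agent.L04.SupportSh.Components
import Mathlib.FieldTheory.IsAlgClosed.Basic

/-!
`h⁰(O)` counts connected components for reduced proper schemes over algebraically closed fields.
-/

set_option autoImplicit false
set_option backward.isDefEq.respectTransparency false
set_option linter.style.haveILetI false
universe u

open CategoryTheory CategoryTheory.Limits AlgebraicGeometry TopologicalSpace Opposite

noncomputable section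

namespace Groth.L21.NormRed

open Groth.L21.RR (h e0 e0_smul)

variable (k : Type u) [Field k] {X : Scheme.{u}} [X.Over (Spec (CommRingCat.of k))]

/-- Constant functions. -/
def cst : k →+* Γ(X, ⊤) :=
  ((X ↘ Spec (CommRingCat.of k)).appTop).hom.comp (Scheme.ΓSpecIso (CommRingCat.of k)).inv.hom

/-- Germ of a global function. -/
abbrev gx (x : X) : Γ(X, ⊤) →+* X.presheaf.stalk x := (X.presheaf.germ ⊤ x trivial).hom

theorem isUnit_gx_cst (x : X) {c : k} (hc : c ≠ 0) : IsUnit (gx x (cst k (X := X) c)) :=
  ((Ne.isUnit hc).map (cst k)).map (gx x)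

theorem exists_locally_constant [IsAlgClosed k] [IsProper (X ↘ Spec (CommRingCat.of k))] [IsReduced X]
    (a : Γ(X, ⊤)) : ∃ v : _root_.ConnectedComponents X → k,
      ∀ x, gx x a = gx x (cst k (v (ConnectedComponents.mk x))) := by
  classical
  have hint : (cst k (X := X)).IsIntegral :=
    RingHom.IsIntegral.trans _ _ (RingHom.isIntegral_of_surjective _
      (Scheme.ΓSpecIso (CommRingCat.of k)).symm.commRingCatIsoToRingEquiv.surjective)
      (isIntegral_appTop_of_universallyClosed _)
  obtain ⟨P, hP, hPa⟩ := hint a
  have hfac := (IsAlgClosed.splits P).eq_prod_roots_of_monic hP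
  rw [hfac, ← Polynomial.coe_eval₂RingHom, map_multiset_prod, Multiset.map_map] at hPa
  let Z : k → Set X := fun c => {x | ¬ IsUnit (gx x (a - cst k c))}
  have hZc : ∀ c, IsClosed (Z c) := fun c => by
    have : Z c = (X.basicOpen (a - cst k c) : Set X)ᶜ := by
      ext x
      exact not_congr (X.mem_basicOpen (U := (⊤ : X.Opens)) (a - cst k c) x trivial).symm
    rw [this]; exact (X.basicOpen _).2.isClosed_compl
  have hcov : ∀ x, ∃ c ∈ P.roots.toFinset, x ∈ Z c := by
    intro x
    by_contra! hx
    have hu : IsUnit (gx x 0) := by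
      rw [← hPa, map_multiset_prod]
      refine Multiset.prod_induction _ _ (fun _ _ h h' => h.mul h') isUnit_one ?_
      intro b hb
      obtain ⟨d, hd, rfl⟩ := Multiset.mem_map.1 hb
      obtain ⟨c, hc, rfl⟩ := Multiset.mem_map.1 hd
      simpa using not_not.1 (hx c (Multiset.mem_toFinset.2 hc))
    rw [map_zero] at hu
    exact not_isUnit_zero hu
  have hdisj : ∀ {c c' : k} {x : X}, x ∈ Z c → x ∈ Z c' → c = c' := by
    intro c c' x hx hx'
    by_contra hn
    have h1 : gx x (cst k (c' - c)) = gx x (a - cst k c) - gx x (a - cst k c') := by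
      rw [← map_sub (gx x), map_sub (cst k)]; congr 1; ring
    exact (IsLocalRing.mem_maximalIdeal _).1 (h1 ▸ Ideal.sub_mem _
      ((IsLocalRing.mem_maximalIdeal _).2 hx) ((IsLocalRing.mem_maximalIdeal _).2 hx'))
      (isUnit_gx_cst k x (sub_ne_zero.2 (Ne.symm hn)))
  have hZo : ∀ c, IsOpen (Z c) := by
    intro c
    have he : Z c = (⋃ c' ∈ P.roots.toFinset.erase c, Z c')ᶜ := by
      ext x
      simp only [Set.mem_compl_iff, Set.mem_iUnion, Finset.mem_erase, not_exists]
      refine ⟨fun hx c' hc' hx' => hc'.1 (hdisj hx' hx), fun hx => ?_⟩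
      obtain ⟨c', hc', hx'⟩ := hcov x
      by_cases h : c' = c
      · exact h ▸ hx'
      · exact absurd hx' (hx c' ⟨h, hc'⟩)
    rw [he]
    exact (isClosed_biUnion_finset fun c' _ => hZc c').isOpen_compl
  choose r hr hrx using hcov
  have hv : ∀ x, gx x a = gx x (cst k (r x)) := fun x => by
    let W : X.Opens := ⟨Z (r x), hZo _⟩
    have hb : X.basicOpen (X.presheaf.map (homOfLE (le_top : W ≤ ⊤)).op (a - cst k (r x))) = ⊥ := by
      rw [Scheme.basicOpen_res]
      refine TopologicalSpace.Opens.ext (Set.eq_empty_iff_forall_notMem.2 fun y hy => ?_)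
      exact hy.1 ((X.mem_basicOpen (U := (⊤ : X.Opens)) _ y trivial).1 hy.2)
    have h0 := (basicOpen_eq_bot_iff _).1 hb
    have h1 := congrArg (X.presheaf.germ W x (hrx x)).hom h0
    rw [TopCat.Presheaf.germ_res_apply, map_zero] at h1
    exact sub_eq_zero.1 (((gx x).map_sub a (cst k (r x))).symm.trans h1)
  refine ⟨fun C => r (ConnectedComponents.surjective_coe C).choose, fun x => ?_⟩
  have hy := (ConnectedComponents.surjective_coe (ConnectedComponents.mk x)).choose_spec
  have hmem : (ConnectedComponents.surjective_coe (ConnectedComponents.mk x)).choose ∈ Z (r x) :=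
    IsClopen.connectedComponent_subset ⟨hZc _, hZo _⟩ (hrx x) (ConnectedComponents.coe_eq_coe'.1 hy)
  show gx x a = gx x (cst k (r (ConnectedComponents.surjective_coe (ConnectedComponents.mk x)).choose))
  rw [hdisj (hrx _) hmem]
  exact hv x

theorem exists_glue [IsLocallyNoetherian X] (v : _root_.ConnectedComponents X → k) : ∃ a : Γ(X, ⊤),
      ∀ x, gx x a = gx x (cst k (v (ConnectedComponents.mk x))) := by
  let U : _root_.ConnectedComponents X → X.Opens := fun C => ⟨ConnectedComponents.mk ⁻¹' {C}, by
    obtain ⟨x, rfl⟩ := ConnectedComponents.surjective_coe C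
    rw [connectedComponents_preimage_singleton]
    exact Groth.L04.SupportSh.isOpen_connectedComponent x⟩
  obtain ⟨a, ha, -⟩ := X.sheaf.existsUnique_gluing' U ⊤ (fun C => homOfLE le_top)
    (fun x _ => TopologicalSpace.Opens.mem_iSup.2 ⟨ConnectedComponents.mk x, rfl⟩)
    (fun C => X.presheaf.map (homOfLE (le_top : U C ≤ ⊤)).op (cst k (v C))) (fun C C' => by
      refine TopCat.Presheaf.section_ext X.sheaf _ _ _ fun x hx => ?_
      obtain rfl : C = C' := hx.1.symm.trans hx.2
      rfl)
  refine ⟨a, fun x => ?_⟩
  have h1 := congrArg (X.presheaf.germ (U (ConnectedComponents.mk x)) x rfl).hom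
    (ha (ConnectedComponents.mk x))
  erw [TopCat.Presheaf.germ_res_apply, TopCat.Presheaf.germ_res_apply] at h1
  exact h1

theorem gx_ext (a b : Γ(X, ⊤)) (hab : ∀ x, gx x a = gx x b) : a = b :=
  TopCat.Presheaf.section_ext X.sheaf _ a b fun x _ => hab x

/-- Sections of the structure module as functions. -/
abbrev toMod (a : Γ(X, ⊤)) : Γ(Coh.structureModule X, ⊤) := a

/-- Locally constant functions as global sections. -/
def constMap [IsLocallyNoetherian X] :
    (_root_.ConnectedComponents X → k) →ₗ[k] Coh.HH X (Coh.structureModule X) 0 :=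
  have hT := fun v => (exists_glue k (X := X) v).choose_spec
  have hTu : ∀ v a, (∀ x, gx x a = gx x (cst k (v (ConnectedComponents.mk x)))) →
      (exists_glue k (X := X) v).choose = a := fun v a h => gx_ext _ _ fun x => (hT v x).trans (h x).symm
  { toFun := fun v => (e0 (Coh.structureModule X)).symm (toMod (exists_glue k (X := X) v).choose)
    map_add' := fun v w => by
      rw [← map_add]
      exact congrArg _ (hTu _ ((exists_glue k (X := X) v).choose + (exists_glue k (X := X) w).choose)
        fun x => by rw [map_add (gx x), hT, hT, Pi.add_apply, map_add, map_add])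
    map_smul' := fun c v => by
      refine (e0 _).injective ?_
      rw [RingHom.id_apply, e0_smul, AddEquiv.apply_symm_apply, AddEquiv.apply_symm_apply]
      exact hTu _ (cst k c * (exists_glue k (X := X) v).choose) fun x => by
        rw [map_mul (gx x), hT, Pi.smul_apply, smul_eq_mul, map_mul, map_mul] }

theorem gx_constMap [IsLocallyNoetherian X] (v : _root_.ConnectedComponents X → k) (x : X) :
    gx x (e0 (Coh.structureModule X) (constMap k (X := X) v)) =
      gx x (cst k (v (ConnectedComponents.mk x))) := by
  have h1 : e0 (Coh.structureModule X) (constMap k (X := X) v) = toMod (exists_glue k (X := X) v).choose :=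
    AddEquiv.apply_symm_apply _ _
  rw [h1]
  exact (exists_glue k (X := X) v).choose_spec x

theorem finite_connectedComponents [IsNoetherian X] : Finite (_root_.ConnectedComponents X) := by
  haveI := (NoetherianSpace.finite_irreducibleComponents (α := X)).to_subtype
  refine Finite.of_surjective (fun Z : irreducibleComponents (X : Type u) =>
    ConnectedComponents.mk Z.2.1.1.some) fun C => ?_
  obtain ⟨x, rfl⟩ := ConnectedComponents.surjective_coe C
  exact ⟨⟨irreducibleComponent x, irreducibleComponent_mem_irreducibleComponents x⟩,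
    ConnectedComponents.coe_eq_coe'.2 (isIrreducible_irreducibleComponent.isConnected.isPreconnected.subset_connectedComponent
      mem_irreducibleComponent (Set.Nonempty.some_mem _))⟩

variable [IsAlgClosed k] [IsProper (X ↘ Spec (CommRingCat.of k))] [IsReduced X]

/-- `h⁰(O)` is the number of connected components. -/
theorem h0_structure_eq_card_connectedComponents :
    h k 0 (Coh.structureModule X) = Nat.card (_root_.ConnectedComponents X) := by
  classical
  haveI := Groth.L21.RR.isNoetherian_of_proper (X := X) k
  have hL : Function.Bijective (constMap k (X := X)) := by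
    refine ⟨(injective_iff_map_eq_zero _).2 fun v hv => funext fun C => ?_, fun w => ?_⟩
    · obtain ⟨x, rfl⟩ := ConnectedComponents.surjective_coe C
      by_contra hn
      have h2 := isUnit_gx_cst k x hn
      rw [← gx_constMap k v x, hv] at h2
      erw [map_zero, map_zero] at h2
      exact not_isUnit_zero h2
    · obtain ⟨v, hv⟩ := exists_locally_constant k (e0 (Coh.structureModule X) w : Γ(X, ⊤))
      exact ⟨v, (e0 _).injective (gx_ext _ _ fun x => (gx_constMap k v x).trans (hv x).symm)⟩
  haveI := finite_connectedComponents (X := X)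
  haveI := Fintype.ofFinite (_root_.ConnectedComponents X)
  show Module.finrank k (Coh.HH X (Coh.structureModule X) 0) = _
  rw [← (LinearEquiv.ofBijective _ hL).finrank_eq, Module.finrank_fintype_fun_eq_card,
    Nat.card_eq_fintype_card]

end Groth.L21.NormRed
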