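import Groth.Agent.L21.NormRed.Euler
import Groth.Agent.L21.NormRed.H0Conn
import Groth.Agent.L21.Nodal.FieldChange
import Groth.Agent.L21.Nodal.Completion
import Groth.Agent.L21.Nodal.Gorenstein
import Groth.Agent.L21.Nodal.Reduced
import Groth.Agent.L21.RR.VeryAmple
import Groth.Agent.L21.Smooth.Scheme
import Groth.Agent.L06.MulticrossApps

/-!
The genus formula for the normalisation of a nodal curve.
-/

set_option autoImplicit false
set_option backward.isDefEq.respectTransparency false
set_option linter.style.haveILetI false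
set_option maxSynthPendingDepth 3
universe u

open CategoryTheory CategoryTheory.Limits AlgebraicGeometry TopologicalSpace
attribute [local instance] Curv2.resAlgebra

noncomputable section

namespace Groth.L21.NormRed

variable (k : Type u) [Field k] [IsAlgClosed k] {X : Scheme.{u}} [X.Over (Spec (CommRingCat.of k))]
  [IsProper (X ↘ Spec (CommRingCat.of k))]
  (hdim : ∀ Z ∈ irreducibleComponents (X : Type u), topologicalKrullDim Z = 1)

include k hdim in
theorem isReduced_of_atWorstNodal (hX : Curv2.AtWorstNodal k X) : IsReduced X := by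
  haveI := Groth.L21.RR.isNoetherian_of_proper (X := X) k
  have hcl : Groth.L21.Nodal.CurveLike X := (Groth.L21.Nodal.curveLike_iff X).2 hdim
  haveI : ∀ x : X, _root_.IsReduced (X.presheaf.stalk x) := fun x =>
    (Groth.L21.Nodal.isGorensteinLocalRing_and_isReduced_stalk hcl hX x).2
  exact isReduced_of_isReduced_stalk X

omit [IsAlgClosed k] in
theorem deltaInv_eq_zero_of_isIntegrallyClosed (A : Type u) [CommRing A] [IsDomain A] [IsIntegrallyClosed A] :
    Curv2.deltaInv A = 0 := by
  rw [Curv2.deltaInv, Module.length_eq_zero_iff, Submodule.Quotient.subsingleton_iff]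
  refine eq_top_iff.2 fun z _ => ?_
  obtain ⟨a, ha⟩ := IsIntegrallyClosed.isIntegral_iff.1 z.2
  exact ⟨a, Subtype.ext ha⟩

include hdim in
theorem deltaInv_of_isNode [AlgebraicGeometry.IsReduced X] {x : X} (hx : Curv2.IsNode k X x) :
    Curv2.deltaInv (X.presheaf.stalk x) = 1 := by
  haveI := Groth.L21.RR.isNoetherian_of_proper (X := X) k
  obtain ⟨z, hz⟩ := Groth.L21.Nodal.bcFst_surjective (k := k) (X := X) k x
  have hodp := Groth.L21.Nodal.odpAt_of_isNode (k := k) k x hx z hz
  haveI : IsLocallyNoetherian (Curv2.bc k X k) := LocallyOfFiniteType.isLocallyNoetherian (Curv2.bcSnd k X k)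
  haveI : IsIso (Spec.map (CommRingCat.ofHom (algebraMap k k))) :=
    inferInstanceAs (IsIso (Spec.map (𝟙 (CommRingCat.of k))))
  haveI : IsIso (Curv2.bcFst k X k) := inferInstanceAs (IsIso (pullback.fst _ _))
  letI : (Curv2.bc k X k).Over (Spec (CommRingCat.of k)) := ⟨Curv2.bcSnd k X k⟩
  letI := Curv2.stalkAlgebra k (Curv2.bc k X k) z
  obtain ⟨ψ, -⟩ : Curv2.IsOrdDoublePt k ((Curv2.bc k X k).presheaf.stalk z) := hodp
  subst hz
  let φ : X.presheaf.stalk (Curv2.bcFst k X k z) ≃+* (Curv2.bc k X k).presheaf.stalk z :=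
    (asIso ((Curv2.bcFst k X k).stalkMap z)).commRingCatIsoToRingEquiv
  letI := φ.toRingHom.toAlgebra
  haveI : Module.Flat (X.presheaf.stalk (Curv2.bcFst k X k z)) ((Curv2.bc k X k).presheaf.stalk z) :=
    Flat.stalkMap (Curv2.bcFst k X k) z
  haveI : IsLocalHom (algebraMap (X.presheaf.stalk (Curv2.bcFst k X k z)) ((Curv2.bc k X k).presheaf.stalk z)) :=
    inferInstanceAs (IsLocalHom ((Curv2.bcFst k X k).stalkMap z).hom)
  obtain ⟨e, -⟩ := Groth.L21.Nodal.exists_completion_equiv
    (A := X.presheaf.stalk (Curv2.bcFst k X k z)) (B := (Curv2.bc k X k).presheaf.stalk z)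
    (le_antisymm (IsLocalRing.map_maximalIdeal_le _) fun b hb => by
      have : b = φ (φ.symm b) := (φ.apply_symm_apply b).symm
      rw [this]
      refine Ideal.mem_map_of_mem _ ?_
      rw [IsLocalRing.mem_maximalIdeal, mem_nonunits_iff] at hb ⊢
      exact fun h => hb (this ▸ h.map φ))
    fun b => ⟨φ.symm b, by
      rw [show algebraMap _ ((Curv2.bc k X k).presheaf.stalk z) (φ.symm b) = b from φ.apply_symm_apply b, sub_self]
      exact Ideal.zero_mem _⟩
  have hJ : Ideal.span {(MvPowerSeries.X 0 * MvPowerSeries.X 1 : MvPowerSeries (Fin 2) k)} =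
      Groth.L06.Multicross.J k 2 := by
    refine le_antisymm (Ideal.span_le.2 (Set.singleton_subset_iff.2
      (Ideal.subset_span ⟨0, 1, by decide, rfl⟩))) (Ideal.span_le.2 ?_)
    rintro _ ⟨i, j, hij, rfl⟩
    fin_cases i <;> fin_cases j <;> first | exact absurd rfl hij | skip
    · exact Ideal.mem_span_singleton_self _
    · rw [SetLike.mem_coe, mul_comm]; exact Ideal.mem_span_singleton_self _
  have h := (Groth.L06.Multicross.numBranches_and_deltaInv (X.presheaf.stalk (Curv2.bcFst k X k z))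
    (Groth.L06.Multicross.ringKrullDim_stalk_eq_one k hdim hx.1)
    (Groth.L06.Multicross.isNagata_stalk' k (X := X) _) k 2
    (e.trans (ψ.trans (Ideal.quotEquivOfEq hJ)))).2.2.1
  exact WithTop.add_right_cancel (by simp : (1 : ℕ∞) ≠ ⊤) (by rw [h]; rfl)

theorem deltaInv_eq_zero_of_not_isNode (hX : Curv2.AtWorstNodal k X) {x : X} (hx : IsClosed ({x} : Set X))
    (hn : ¬ Curv2.IsNode k X x) : Curv2.deltaInv (X.presheaf.stalk x) = 0 := by
  obtain ⟨U, hxU, hU⟩ := (hX x hx).resolve_right hn
  haveI := hU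
  haveI := Groth.L21.Smooth.isDomain_stalk (U.ι ≫ (X ↘ Spec (CommRingCat.of k))) ⟨x, hxU⟩
  haveI := Groth.L21.Smooth.isIntegrallyClosed_stalk (U.ι ≫ (X ↘ Spec (CommRingCat.of k))) ⟨x, hxU⟩
  haveI : IsDomain (X.presheaf.stalk x) :=
    (U.stalkIso ⟨x, hxU⟩).commRingCatIsoToRingEquiv.symm.toMulEquiv.isDomain
  haveI : IsIntegrallyClosed (X.presheaf.stalk x) :=
    IsIntegrallyClosed.of_equiv (U.stalkIso ⟨x, hxU⟩).commRingCatIsoToRingEquiv
  exact deltaInv_eq_zero_of_isIntegrallyClosed _

variable {X' : Scheme.{u}} [X'.Over (Spec (CommRingCat.of k))]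
  (π : X' ⟶ X) [IsFinite π] (hπ : π ≫ (X ↘ Spec (CommRingCat.of k)) = X' ↘ Spec (CommRingCat.of k))
  (hX : Curv2.AtWorstNodal k X) (hX' : Pi1.IsNormalScheme X') {U : X.Opens}
  (hU : Dense (U : Set X)) (hU' : Dense ((π ⁻¹ᵁ U : X'.Opens) : Set X')) [IsIso (π ∣_ U)]

set_option maxHeartbeats 800000 in
include hdim hπ hX hX' hU hU' in
/-- `g(X) + #π₀(X') = g(X') + #nodes + #π₀(X)`. -/
theorem genus_formula :
    (Curv2.genus k X : ℤ) + Nat.card (_root_.ConnectedComponents X') =
      (Curv2.genus k X' : ℤ) + Nat.card {x : X // Curv2.IsNode k X x} + Nat.card (_root_.ConnectedComponents X) := by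
  classical
  haveI := isReduced_of_atWorstNodal k hdim hX
  haveI := isReduced_of_normal hX'
  haveI : IsProper (X' ↘ Spec (CommRingCat.of k)) := by rw [← hπ]; infer_instance
  have hd := dim_le_one_of_components hdim
  haveI : X.IsSeparated := ⟨by rw [← terminal.comp_from (X ↘ Spec (CommRingCat.of k))]; infer_instance⟩
  haveI := Groth.L21.RR.isNoetherian_of_proper (X := X) k
  haveI : IsLocallyNoetherian X' := LocallyOfFiniteType.isLocallyNoetherian π
  obtain ⟨F, hFc, hF0, he⟩ := euler_formula k π hπ hd hX' hU hU'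
  rw [← Groth.L03.Euler.euler_push π (Coh.structureModule X') Groth.L16.CohClosedPush.isCoh_structure.1 hπ,
    Groth.L21.RR.euler_eq k hd, Groth.L21.RR.euler_eq k hd,
    Groth.L21.RR.h_push_structure π k hπ 0, Groth.L21.RR.h_push_structure π k hπ 1,
    h0_structure_eq_card_connectedComponents, h0_structure_eq_card_connectedComponents] at he
  have hnode : ∀ x, Curv2.IsNode k X x → x ∈ F := fun x hx => by
    by_contra hxF
    have := hF0 x hx.1 hxF
    rw [deltaInv_of_isNode k hdim hx] at this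
    exact one_ne_zero this
  have hsum : ∑ x ∈ F, ((Module.finrank k (X.residueField x) : ℤ) *
      ((Curv2.deltaInv (X.presheaf.stalk x)).toNat : ℤ)) = Nat.card {x : X // Curv2.IsNode k X x} := by
    rw [Nat.card_congr (Equiv.subtypeEquivRight (q := fun x => x ∈ F.filter (Curv2.IsNode k X))
      fun x => ⟨fun hx => Finset.mem_filter.2 ⟨hnode x hx, hx⟩, fun hx => (Finset.mem_filter.1 hx).2⟩),
      Nat.card_eq_finsetCard, Finset.card_filter, Nat.cast_sum]
    refine Finset.sum_congr rfl fun x hx => ?_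
    rw [Groth.L21.RR.finrank_residueField_eq_one k (hFc x hx)]
    by_cases hn : Curv2.IsNode k X x
    · simp [hn, deltaInv_of_isNode k hdim hn]
    · simp [hn, deltaInv_eq_zero_of_not_isNode k hX (hFc x hx) hn]
  rw [hsum] at he
  simp only [Curv2.genus]
  change (_ : ℤ) - (Module.finrank k (Coh.HH X' (Coh.structureModule X') 1) : ℤ) =
    (_ : ℤ) - (Module.finrank k (Coh.HH X (Coh.structureModule X) 1) : ℤ) + _ at he
  omega

end Groth.L21.NormRed
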