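import Groth.Agent.L21.NormRed.Algebra
import Groth.Agent.L21.RR.BirationalGenus
import Groth.Agent.L07.BlowLib.FiniteBirat
import Groth.Agent.L22.Norm.Reduced
import Groth.Agent.L20.PushStalk
import Groth.Agent.L00.StalkFunctor
import Groth.Prelude.Def_Pi1
import Groth.Prelude.Def_StMod

/-!
The cokernel of `O_X → π_* O_{X'}` for the normalisation of a reduced locally Noetherian scheme.
-/

set_option autoImplicit false
set_option backward.isDefEq.respectTransparency false
set_option linter.style.haveILetI false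

universe u

open AlgebraicGeometry CategoryTheory CategoryTheory.Limits TopologicalSpace

noncomputable section

namespace Groth.L21.NormRed

theorem fromSpec_mem_of_dense {X : Scheme.{u}} [IsLocallyNoetherian X] {V : X.Opens} (hV : IsAffineOpen V)
    {p : Ideal Γ(X, V)} [p.IsPrime] (hp : p ∈ minimalPrimes Γ(X, V)) {W : X.Opens}
    (hW : Dense (W : Set X)) : hV.fromSpec ⟨p, inferInstance⟩ ∈ W := by
  refine Groth.L20.mem_of_dense_of_mem_genericPoints W hW ((Groth.L20.mem_genericPoints_iff _).2 fun y hy => ?_)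
  have hyV : y ∈ Set.range hV.fromSpec :=
    hy.mem_open hV.fromSpec.isOpenEmbedding.isOpen_range ⟨_, rfl⟩
  obtain ⟨z, rfl⟩ := hyV
  have hz : z.asIdeal ≤ p :=
    (PrimeSpectrum.le_iff_specializes z _).2 (hV.fromSpec.isOpenEmbedding.isInducing.specializes_iff.1 hy)
  exact congrArg hV.fromSpec (PrimeSpectrum.ext (le_antisymm hz (hp.2 ⟨z.isPrime, bot_le⟩ hz)))

variable {X X' : Scheme.{u}} (π : X' ⟶ X) [IsFinite π]

theorem isReduced_of_normal (hX' : Pi1.IsNormalScheme X') : IsReduced X' := by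
  haveI : ∀ x : X', _root_.IsReduced (X'.presheaf.stalk x) := fun x => by
    haveI := (hX' x).1; infer_instance
  exact isReduced_of_isReduced_stalk X'

variable [IsLocallyNoetherian X] [IsReduced X] (hX' : Pi1.IsNormalScheme X') {U : X.Opens}
  (hU : Dense (U : Set X)) (hU' : Dense ((π ⁻¹ᵁ U : X'.Opens) : Set X')) [IsIso (π ∣_ U)]

set_option maxHeartbeats 1000000 in
include hX' hU hU' in
/-- A regular element cutting out a piece of the dense open. -/
theorem exists_regular {V : X.Opens} (hV : IsAffineOpen V) :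
    ∃ f : Γ(X, V), X.basicOpen f ≤ U ∧ f ∈ nonZeroDivisors Γ(X, V) ∧
      (π.app V).hom f ∈ nonZeroDivisors Γ(X', π ⁻¹ᵁ V) := by
  classical
  haveI := isReduced_of_normal hX'
  haveI : IsLocallyNoetherian X' := LocallyOfFiniteType.isLocallyNoetherian π
  have hV' : IsAffineOpen (π ⁻¹ᵁ V) := hV.preimage π
  haveI hR : IsNoetherianRing Γ(X, V) := IsLocallyNoetherian.component_noetherian ⟨V, hV⟩
  haveI hB : IsNoetherianRing Γ(X', π ⁻¹ᵁ V) := IsLocallyNoetherian.component_noetherian ⟨_, hV'⟩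
  let φ := (π.app V).hom
  let T : Set (PrimeSpectrum Γ(X, V)) := hV.fromSpec ⁻¹' (U : Set X)
  let I := PrimeSpectrum.vanishingIdeal Tᶜ
  have hTo : IsOpen T := U.2.preimage hV.fromSpec.continuous
  have hI : ∀ z : PrimeSpectrum Γ(X, V), z ∈ T → ¬ I ≤ z.asIdeal := fun z hz h => by
    have h1 : z ∈ PrimeSpectrum.zeroLocus (I : Set Γ(X, V)) := h
    rw [PrimeSpectrum.zeroLocus_vanishingIdeal_eq_closure, hTo.isClosed_compl.closure_eq] at h1
    exact h1 hz
  let S := minimalPrimes Γ(X, V) ∪ (fun q => q.comap φ) '' minimalPrimes Γ(X', π ⁻¹ᵁ V)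
  have hS : S.Finite := ((⊥ : Ideal Γ(X, V)).finite_minimalPrimes_of_isNoetherianRing _).union
    (((⊥ : Ideal Γ(X', π ⁻¹ᵁ V)).finite_minimalPrimes_of_isNoetherianRing _).image _)
  have hSp : ∀ J ∈ S, J.IsPrime := by
    rintro J (hJ | ⟨q, hq, rfl⟩)
    · exact hJ.1.1
    · haveI := hq.1.1
      exact Ideal.comap_isPrime φ q
  have hSI : ∀ J ∈ S, ¬ I ≤ J := by
    rintro J (hJ | ⟨q, hq, rfl⟩)
    · haveI := hJ.1.1
      exact hI ⟨J, inferInstance⟩ (fromSpec_mem_of_dense hV hJ hU)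
    · haveI := hq.1.1
      have h1 : π (hV'.fromSpec ⟨q, inferInstance⟩) ∈ U := fromSpec_mem_of_dense hV' hq hU'
      have h2 := congr($(IsAffineOpen.SpecMap_appLE_fromSpec π hV hV' le_rfl) ⟨q, inferInstance⟩)
      rw [Scheme.Hom.comp_apply, Scheme.Hom.comp_apply] at h2
      rw [← h2, ← Scheme.Hom.app_eq_appLE] at h1
      exact hI ⟨q.comap φ, inferInstance⟩ h1
  obtain ⟨f, hfI, hfS⟩ : ∃ f ∈ I, ∀ J ∈ S, f ∉ J := by
    by_contra! hh
    obtain ⟨J, hJ, hle⟩ := (Ideal.subset_union_prime_finite hS (f := fun J : Ideal Γ(X, V) => J) ⊥ ⊥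
      (fun J hJ _ _ => hSp J hJ)).1 (fun x hx => by
        obtain ⟨J, hJ, hxJ⟩ := hh x hx
        exact Set.mem_biUnion hJ hxJ : (I : Set Γ(X, V)) ⊆ ⋃ J ∈ S, (J : Set Γ(X, V)))
    exact hSI J hJ hle
  haveI : _root_.IsReduced Γ(X, V) := IsReduced.component_reduced V
  haveI : _root_.IsReduced Γ(X', π ⁻¹ᵁ V) := IsReduced.component_reduced _
  refine ⟨f, fun x hx => ?_, (Groth.L22.Norm.notMem_minimalPrimes_iff _ f).2 fun J hJ => hfS J (Or.inl hJ),
    (Groth.L22.Norm.notMem_minimalPrimes_iff _ _).2 fun q hq h => hfS _ (Or.inr ⟨q, hq, rfl⟩) h⟩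
  by_contra hxU
  have hxV : x ∈ V := X.basicOpen_le f hx
  obtain ⟨z, rfl⟩ : x ∈ Set.range hV.fromSpec := by rw [hV.range_fromSpec]; exact hxV
  have h1 : z ∈ hV.fromSpec ⁻¹ᵁ X.basicOpen f := hx
  rw [hV.fromSpec_preimage_basicOpen] at h1
  exact h1 ((PrimeSpectrum.mem_vanishingIdeal Tᶜ f).1 hfI z hxU)

include hU in
theorem app_injective (W : X.Opens) : Function.Injective (π.app W).hom :=
  Groth.L21.RR.app_injective_of_isIso_over_dense π hU W

theorem exists_pow_mul_eq {V : X.Opens} (hV : IsAffineOpen V) (f : Γ(X, V)) (hD : X.basicOpen f ≤ U)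
    (hfB : (π.app V).hom f ∈ nonZeroDivisors Γ(X', π ⁻¹ᵁ V)) (b : Γ(X', π ⁻¹ᵁ V)) :
    ∃ (n : ℕ) (r : Γ(X, V)), (π.app V).hom f ^ n * b = (π.app V).hom r := by
  have hV' : IsAffineOpen (π ⁻¹ᵁ V) := hV.preimage π
  haveI := Groth.L07.BlowLib.isIso_app_of_le π (C := U) inferInstance (X.basicOpen f) hD
  let res := (X'.presheaf.map (homOfLE (π.preimage_mono (X.basicOpen_le f))).op).hom
  have hinj : Function.Injective res := by
    letI := res.toAlgebra
    haveI := hV'.isLocalization_of_eq_basicOpen ((π.app V).hom f)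
      (homOfLE (π.preimage_mono (X.basicOpen_le f))) (π.preimage_basicOpen f)
    exact IsLocalization.injective (M := Submonoid.powers ((π.app V).hom f))
      (S := Γ(X', π ⁻¹ᵁ X.basicOpen f)) (Submonoid.powers_le.2 hfB)
  obtain ⟨a, ha⟩ : ∃ a, (π.app (X.basicOpen f)).hom a = res b :=
    (ConcreteCategory.bijective_of_isIso (π.app (X.basicOpen f))).2 (res b)
  letI : Algebra Γ(X, V) Γ(X, X.basicOpen f) :=
    (X.presheaf.map (homOfLE (X.basicOpen_le f)).op).hom.toAlgebra
  haveI : IsLocalization.Away f Γ(X, X.basicOpen f) := hV.isLocalization_basicOpen f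
  obtain ⟨⟨r, _, n, rfl⟩, hr⟩ := IsLocalization.surj (Submonoid.powers f) a
  refine ⟨n, r, hinj ?_⟩
  have h1 := congrArg (π.app (X.basicOpen f)).hom hr
  have h2 : ∀ s : Γ(X, V), (π.app (X.basicOpen f)).hom (algebraMap Γ(X, V) Γ(X, X.basicOpen f) s) =
      res ((π.app V).hom s) := fun s =>
    congr($(π.naturality (homOfLE (X.basicOpen_le f)).op) s)
  rw [map_mul, h2, h2, map_pow] at h1
  rw [map_mul, ← h1, ← ha, map_pow]
  ring

set_option maxHeartbeats 1600000 in
include hX' hU hU' in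
/-- The stalks of the cokernel of `O → π_*O'` are the normalised local rings modulo the local rings. -/
theorem length_stalk_cokernel (x : X) :
    Module.length (X.presheaf.stalk x) ((cokernel (ClSub.unitToPush π)).presheaf.stalk x) =
      Curv2.deltaInv (X.presheaf.stalk x) := by
  obtain ⟨V, hV, hxV, -⟩ := exists_isAffineOpen_mem_and_subset (TopologicalSpace.Opens.mem_top x)
  obtain ⟨f, hfU, hfR, hfB⟩ := exists_regular π hX' hU hU' hV
  letI algAB : Algebra Γ(X, V) Γ(X', π ⁻¹ᵁ V) := (π.app V).hom.toAlgebra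
  haveI : Module.Finite Γ(X, V) Γ(X', π ⁻¹ᵁ V) := π.finite_app V hV
  have hV' : IsAffineOpen (π ⁻¹ᵁ V) := hV.preimage π
  haveI := StMod.isQCoh_structureModule X'
  let p := (hV.primeIdealOf ⟨x, hxV⟩).asIdeal
  letI algAO : Algebra Γ(X, V) (X.presheaf.stalk x) :=
    TopCat.Presheaf.algebra_section_stalk X.presheaf ⟨x, hxV⟩
  haveI hlocO : IsLocalization.AtPrime (X.presheaf.stalk x) p := hV.isLocalization_stalk ⟨x, hxV⟩
  have hnorm : ∀ (Q : Ideal Γ(X', π ⁻¹ᵁ V)) [Q.IsPrime], IsDomain (Localization.AtPrime Q) ∧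
      IsIntegrallyClosed (Localization.AtPrime Q) := fun Q _ => by
    have hy : hV'.fromSpec ⟨Q, inferInstance⟩ ∈ π ⁻¹ᵁ V := by
      show _ ∈ ((π ⁻¹ᵁ V : X'.Opens) : Set X')
      rw [← hV'.range_fromSpec]; exact ⟨_, rfl⟩
    letI := TopCat.Presheaf.algebra_section_stalk X'.presheaf ⟨_, hy⟩
    haveI : IsLocalization Q.primeCompl (X'.presheaf.stalk (hV'.fromSpec ⟨Q, inferInstance⟩)) :=
      hV'.isLocalization_stalk' ⟨Q, inferInstance⟩ hy
    let e := (IsLocalization.algEquiv Q.primeCompl (X'.presheaf.stalk (hV'.fromSpec ⟨Q, inferInstance⟩))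
      (Localization.AtPrime Q)).toRingEquiv
    obtain ⟨h1, h2⟩ := hX' (hV'.fromSpec ⟨Q, inferInstance⟩)
    exact ⟨e.symm.toMulEquiv.isDomain, IsIntegrallyClosed.of_equiv e⟩
  obtain ⟨ι, hι, hι1⟩ := exists_isLocalizedModule_integralClosure p (X.presheaf.stalk x) f hfR hfB
    (app_injective π hU V) (exists_pow_mul_eq π hV f hfU hfB) hnorm
  haveI := hι
  let P := (Scheme.Modules.pushforward π).obj (Coh.structureModule X')
  letI := Groth.L20.ModStalk.stalkModule P hxV
  let gP : Γ(X', π ⁻¹ᵁ V) →ₗ[Γ(X, V)] P.presheaf.stalk x :=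
    { toFun := fun b => Groth.L20.ModStalk.germₗ P hxV b
      map_add' := fun b b' => map_add (Groth.L20.ModStalk.germₗ P hxV) b b'
      map_smul' := fun a b => (Groth.L20.ModStalk.germₗ P hxV).map_smul a b }
  haveI hgP : IsLocalizedModule p.primeCompl gP :=
    Groth.L20.ModStalk.isLocalizedModule_germ_push π (Coh.structureModule X') hV hV' hxV
  haveI : IsScalarTower Γ(X, V) (X.presheaf.stalk x) (P.presheaf.stalk x) :=
    IsScalarTower.of_algebraMap_smul fun _ _ => rfl
  let e₀ := IsLocalizedModule.linearEquiv p.primeCompl ι gP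
  let E : integralClosure (X.presheaf.stalk x) (FractionRing (X.presheaf.stalk x)) ≃ₗ[X.presheaf.stalk x]
      P.presheaf.stalk x :=
    e₀.extendScalarsOfIsLocalization p.primeCompl (X.presheaf.stalk x)
  have he1 : E 1 = gP 1 := by
    rw [← hι1]
    exact IsLocalizedModule.linearEquiv_apply p.primeCompl ι gP 1
  let ω := (Groth.L00.Stk.F X x).map (ClSub.unitToPush π)
  have hrange : Submodule.map E.toLinearMap (LinearMap.range (Algebra.linearMap (X.presheaf.stalk x)
      (integralClosure (X.presheaf.stalk x) (FractionRing (X.presheaf.stalk x))))) =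
      LinearMap.range ω.hom := by
    have hω : ∀ (W : X.Opens) (hx : x ∈ W) (s : Γ(X, W)),
        ω.hom ((Coh.structureModule X).presheaf.germ W x hx s) = P.presheaf.germ W x hx (π.app W s) :=
      fun W hx s => TopCat.Presheaf.stalkFunctor_map_germ_apply W x hx
        ((Scheme.Modules.toPresheaf X).map (ClSub.unitToPush π)) s
    have h1 : ω.hom ((Coh.structureModule X).presheaf.germ V x hxV (1 : Γ(X, V))) = E 1 := by
      rw [hω, map_one, he1]
      rfl
    have hgen : ∀ z, ∃ r : X.presheaf.stalk x,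
        z = r • (Coh.structureModule X).presheaf.germ V x hxV (1 : Γ(X, V)) := fun z => by
      obtain ⟨W, hx, s, rfl⟩ := TopCat.Presheaf.germ_exist (Coh.structureModule X).presheaf z
      refine ⟨X.presheaf.germ W x hx s, ?_⟩
      have h2 : (Coh.structureModule X).presheaf.germ V x hxV (1 : Γ(X, V)) =
          (Coh.structureModule X).presheaf.germ W x hx (1 : Γ(X, W)) := by
        rw [← TopCat.Presheaf.germ_res_apply (Coh.structureModule X).presheaf
            (homOfLE (inf_le_left : V ⊓ W ≤ V)) x ⟨hxV, hx⟩ (1 : Γ(X, V)),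
          ← TopCat.Presheaf.germ_res_apply (Coh.structureModule X).presheaf
            (homOfLE (inf_le_right : V ⊓ W ≤ W)) x ⟨hxV, hx⟩ (1 : Γ(X, W))]
        exact congrArg _ ((map_one (X.presheaf.map (homOfLE (inf_le_left : V ⊓ W ≤ V)).op).hom).trans
          (map_one (X.presheaf.map (homOfLE (inf_le_right : V ⊓ W ≤ W)).op).hom).symm)
      rw [h2, ← Groth.L20.ModStalk.germ_smul (Coh.structureModule X) hx]
      exact congrArg _ (mul_one (show Γ(X, W) from s)).symm
    ext y
    simp only [Submodule.mem_map, LinearMap.mem_range, Algebra.linearMap_apply, LinearEquiv.coe_coe]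
    constructor
    · rintro ⟨_, ⟨r, rfl⟩, rfl⟩
      exact ⟨r • (Coh.structureModule X).presheaf.germ V x hxV (1 : Γ(X, V)),
        (ω.hom.map_smul r _).trans (by rw [h1, Algebra.algebraMap_eq_smul_one, map_smul])⟩
    · rintro ⟨z, rfl⟩
      obtain ⟨r, rfl⟩ := hgen z
      exact ⟨_, ⟨r, rfl⟩, ((ω.hom.map_smul r _).trans
        (by rw [h1, Algebra.algebraMap_eq_smul_one, map_smul])).symm⟩
  haveI : PreservesColimit (parallelPair (ClSub.unitToPush π) 0) (Groth.L00.Stk.F X x) := inferInstance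
  let i1 := (PreservesCokernel.iso (Groth.L00.Stk.F X x) (ClSub.unitToPush π) ≪≫
    ModuleCat.cokernelIsoRangeQuotient ω).toLinearEquiv
  exact i1.length_eq.trans (Submodule.Quotient.equiv _ _ E hrange).length_eq.symm

end Groth.L21.NormRed
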