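import Groth.Agent.L21.NormRed.Nodal
import Groth.Agent.L21.CurveAdj.RatComp
import Groth.Agent.L21.CurveAdj.Pointed
import Groth.Agent.L21.RedCurve.Points
import Groth.Agent.L05.ClopenSigma
import Groth.Agent.L27.FEtGal.SplitFinite
import Groth.Agent.L16.ProjSpace.Basic
import Groth.Prelude.Def_StCurv

/-!
Nodal curves of arithmetic genus zero are rational trees.
-/

set_option autoImplicit false
set_option backward.isDefEq.respectTransparency false
set_option linter.style.haveILetI false
universe u

open CategoryTheory CategoryTheory.Limits AlgebraicGeometry TopologicalSpace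
attribute [local instance] Curv2.resAlgebra

noncomputable section

namespace Groth.L21.NormRed

open Groth.L21.RR (h)
open Groth.L21.CurveAdj (IC component dim_component coe_support_IC degOn)

theorem isFinite_sigmaFold {Y : Scheme.{u}} (n : ℕ) :
    IsFinite (Sigma.desc fun _ : ULift.{u} (Fin n) => 𝟙 Y) := by
  let hh : (∐ fun _ : ULift.{u} (Fin n) => Y) ⟶ ∐ fun _ : Fin n => Y :=
    Sigma.desc fun i => Sigma.ι (fun _ : Fin n => Y) i.down
  haveI : IsIso hh := ⟨Sigma.desc fun j => Sigma.ι (fun _ : ULift.{u} (Fin n) => Y) ⟨j⟩,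
    Sigma.hom_ext _ _ fun i => by simp [hh], Sigma.hom_ext _ _ fun j => by simp [hh]⟩
  haveI := Groth.L27.FEtGal.isFinite_foldId (Y := Y) n
  have : (Sigma.desc fun _ : ULift.{u} (Fin n) => 𝟙 Y) = hh ≫ Sigma.desc fun _ : Fin n => 𝟙 Y :=
    Sigma.hom_ext _ _ fun i => by simp [hh]
  rw [this]
  infer_instance

variable (k : Type u) [Field k] [IsAlgClosed k] {X : Scheme.{u}} [X.Over (Spec (CommRingCat.of k))]
  [IsProper (X ↘ Spec (CommRingCat.of k))] [ConnectedSpace X]
  (hdimX : topologicalKrullDim X = 1) (hX : Curv2.AtWorstNodal k X)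

include k hdimX in
theorem dim_components : ∀ Z ∈ irreducibleComponents (X : Type u), topologicalKrullDim Z = 1 := by
  haveI := Groth.L21.RR.isNoetherian_of_proper (X := X) k
  have hgen : ∀ z : X, ∃ w, ¬ IsClosed ({w} : Set X) ∧ w ⤳ z := Groth.L21.CurveDual.exists_nonclosed_gen hdimX
  refine (Groth.L21.Nodal.curveLike_iff X).1 ⟨fun a b c hab hbc => ?_, fun x hx => ?_⟩
  · exact Groth.L21.RR.Top.spec_of_dim_le_one (X := X.toTopCat) hdimX.le a b c hab hbc
  · obtain ⟨w, hw, hwx⟩ := hgen x
    exact ⟨w, fun e => hw (e ▸ hx), hwx⟩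

include hX in
theorem finite_nodes [AlgebraicGeometry.IsReduced X] {X' : Scheme.{u}} [X'.Over (Spec (CommRingCat.of k))]
    (π : X' ⟶ X) [IsFinite π] (hπ : π ≫ (X ↘ Spec (CommRingCat.of k)) = X' ↘ Spec (CommRingCat.of k))
    (hdim : ∀ Z ∈ irreducibleComponents (X : Type u), topologicalKrullDim Z = 1)
    (hX' : Pi1.IsNormalScheme X') {U : X.Opens} (hU : Dense (U : Set X))
    (hU' : Dense ((π ⁻¹ᵁ U : X'.Opens) : Set X')) [IsIso (π ∣_ U)] :
    Finite {x : X // Curv2.IsNode k X x} := by
  obtain ⟨F, -, hF0, -⟩ := euler_formula k π hπ (dim_le_one_of_components hdim) hX' hU hU'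
  refine Finite.of_injective (fun x => (⟨x.1, ?_⟩ : F)) fun a b h => Subtype.ext (congrArg (fun z : F => z.1) h)
  by_contra hxF
  have := hF0 x.1 x.2.1 hxF
  rw [deltaInv_of_isNode k hdim x.2] at this
  exact one_ne_zero this

set_option maxHeartbeats 1600000 in
include hdimX hX in
theorem genus_add_card (hsm : ∀ E ∈ irreducibleComponents (X : Type u),
      CurvSt.IsSmRatComp k X (X ↘ Spec (CommRingCat.of k)) E) :
    Finite {x : X // Curv2.IsNode k X x} ∧
      Curv2.genus k X + (irreducibleComponents (X : Type u)).ncard =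
        Nat.card {x : X // Curv2.IsNode k X x} + 1 := by
  classical
  have hdim := dim_components k hdimX
  haveI := isReduced_of_atWorstNodal k hdim hX
  haveI := Groth.L21.RR.isNoetherian_of_proper (X := X) k
  have hd : topologicalKrullDim X ≤ 1 := hdimX.le
  have hgen : ∀ z : X, ∃ w, ¬ IsClosed ({w} : Set X) ∧ w ⤳ z := Groth.L21.CurveDual.exists_nonclosed_gen hdimX
  have hfinC : (irreducibleComponents (X : Type u)).Finite := NoetherianSpace.finite_irreducibleComponents
  haveI := hfinC.to_subtype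
  obtain ⟨n, ⟨eI⟩⟩ := Finite.exists_equiv_fin (irreducibleComponents (X : Type u))
  let E : ULift.{u} (Fin n) → Set X := fun i => (eI.symm i.down).1
  have hE : ∀ i, E i ∈ irreducibleComponents (X : Type u) := fun i => (eI.symm i.down).2
  have hEinj : ∀ {i j}, E i = E j → i = j := fun {i j} h =>
    ULift.ext _ _ (eI.symm.injective (Subtype.ext h))
  have hEsurj : ∀ C ∈ irreducibleComponents (X : Type u), ∃ i, E i = C := fun C hC =>
    ⟨⟨eI ⟨C, hC⟩⟩, by simp [E]⟩
  let W : ULift.{u} (Fin n) → Scheme.{u} := fun i => (IC (E i) (hE i)).subscheme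
  let f : ∀ i, W i ⟶ X := fun i => (IC (E i) (hE i)).subschemeι
  have hr : ∀ i, Set.range (f i) = E i := fun i => by
    rw [Scheme.IdealSheafData.range_subschemeι, coe_support_IC]
  let X' : Scheme.{u} := ∐ W
  let π : X' ⟶ X := Sigma.desc f
  letI : X'.Over (Spec (CommRingCat.of k)) := ⟨π ≫ (X ↘ Spec (CommRingCat.of k))⟩
  have hι : ∀ i, Sigma.ι W i ≫ π = f i := fun i => Sigma.ι_desc _ _
  haveI : IsFinite π := by
    haveI := Groth.L05.ClopenSigma.isClosedImmersion_sigmaMap (fun _ : ULift.{u} (Fin n) => X) W f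
    haveI := isFinite_sigmaFold (Y := X) n
    have he : π = Limits.Sigma.map f ≫ Sigma.desc fun _ : ULift.{u} (Fin n) => 𝟙 X :=
      Sigma.hom_ext _ _ fun i => by simp [π]
    rw [he]
    infer_instance
  have hsurjι := Groth.L05.ClopenSigma.sigmaι_surjective W
  -- the open set where the components are disjoint
  let B : Set X := ⋃ i, ⋃ j ∈ {j | j ≠ i}, E i ∩ E j
  have hBc : IsClosed B := isClosed_iUnion_of_finite fun i => Set.Finite.isClosed_biUnion (Set.toFinite _)
    fun j _ => (isClosed_of_mem_irreducibleComponents _ (hE i)).inter (isClosed_of_mem_irreducibleComponents _ (hE j))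
  let U : X.Opens := ⟨Bᶜ, hBc.isOpen_compl⟩
  have honly : ∀ {x : X}, x ∈ U → ∀ {i j}, x ∈ E i → x ∈ E j → i = j := fun {x} hx {i j} hi hj => by
    by_contra hne
    exact hx (Set.mem_iUnion.2 ⟨i, Set.mem_iUnion₂.2 ⟨j, fun h => hne h.symm, hi, hj⟩⟩)
  have hnc : ∀ {w : X}, ¬ IsClosed ({w} : Set X) → w ∈ U := fun {w} hw hwB => by
    obtain ⟨i, hi⟩ := Set.mem_iUnion.1 hwB
    obtain ⟨j, hne, hwi, hwj⟩ := Set.mem_iUnion₂.1 hi
    have key : ∀ C ∈ irreducibleComponents (X : Type u), w ∈ C → C = closure {w} := fun C hC hwC => by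
      obtain ⟨η, hη⟩ := QuasiSober.sober hC.1 (isClosed_of_mem_irreducibleComponents C hC)
      rw [← hη.def, Groth.L21.RedCurve.maximal_of_not_isClosed hd hw η (hη.specializes hwC)]
    exact hne (hEinj ((key _ (hE j) hwj).trans (key _ (hE i) hwi).symm))
  have hU : Dense (U : Set X) := fun x => by
    obtain ⟨w, hw, hwx⟩ := hgen x
    exact closure_mono (Set.singleton_subset_iff.2 (hnc hw)) hwx.mem_closure
  have hU' : Dense ((π ⁻¹ᵁ U : X'.Opens) : Set X') := fun y => by
    obtain ⟨i, a, rfl⟩ := hsurjι y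
    obtain ⟨-, -, hg⟩ := component hgen (E i) (hE i)
    obtain ⟨w, hwE, hw, hwx⟩ := hg (f i a) (by rw [← Scheme.IdealSheafData.range_subschemeι]; exact ⟨a, rfl⟩)
    rw [← Scheme.IdealSheafData.range_subschemeι] at hwE
    obtain ⟨b, rfl⟩ := hwE
    have hba : b ⤳ a := (f i).isClosedEmbedding.isInducing.specializes_iff.1 hwx
    refine closure_mono (Set.singleton_subset_iff.2 ?_) (hba.map (Sigma.ι W i).continuous).mem_closure
    show π (Sigma.ι W i b) ∈ U
    rw [← Scheme.Hom.comp_apply, hι]
    exact hnc hw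
  haveI hst : SurjectiveOnStalks π :=
    IsZariskiLocalAtSource.sigmaDesc (P := @SurjectiveOnStalks) fun i => inferInstance
  haveI hπU : IsIso (π ∣_ U) := by
    haveI : SurjectiveOnStalks (π ∣_ U) :=
      IsZariskiLocalAtTarget.restrict (P := @SurjectiveOnStalks) hst U
    have hinj : Function.Injective (π ∣_ U) := by
      intro y z hyz
      obtain ⟨i, a, ha⟩ := hsurjι y.1
      obtain ⟨j, b, hb⟩ := hsurjι z.1
      have h1 : π y.1 = π z.1 := by
        rw [← morphismRestrict_base_coe, ← morphismRestrict_base_coe]; exact congrArg Subtype.val hyz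
      have hyU : π y.1 ∈ U := y.2
      have e1 : f i a = π y.1 := by rw [← ha, ← Scheme.Hom.comp_apply, hι]
      have e2 : f j b = π z.1 := by rw [← hb, ← Scheme.Hom.comp_apply, hι]
      obtain rfl : i = j := honly hyU ((hr i).le ⟨a, e1⟩) ((hr j).le ⟨b, e2.trans h1.symm⟩)
      obtain rfl : a = b := (f i).isClosedEmbedding.injective (e1.trans (h1.trans e2.symm))
      exact Subtype.ext (ha.symm.trans hb)
    have hemb : Topology.IsClosedEmbedding (π ∣_ U) :=
      .of_continuous_injective_isClosedMap (π ∣_ U).continuous hinj (π ∣_ U).isClosedMap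
    haveI : IsPreimmersion (π ∣_ U) := { isEmbedding := hemb.isEmbedding }
    haveI : IsClosedImmersion (π ∣_ U) := IsClosedImmersion.of_isPreimmersion _ hemb.isClosed_range
    haveI : Surjective (π ∣_ U) := ⟨fun x => by
      obtain ⟨i, hi⟩ := hEsurj (irreducibleComponent x.1) (irreducibleComponent_mem_irreducibleComponents x.1)
      obtain ⟨a, ha⟩ : x.1 ∈ Set.range (f i) := by rw [hr, hi]; exact mem_irreducibleComponent
      have h2 : π (Sigma.ι W i a) = x.1 := by rw [← Scheme.Hom.comp_apply, hι]; exact ha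
      refine ⟨⟨Sigma.ι W i a, ?_⟩, Subtype.ext ?_⟩
      · show π (Sigma.ι W i a) ∈ U
        rw [h2]; exact x.2
      · rw [morphismRestrict_base_coe]; exact h2⟩
    exact isIso_of_isClosedImmersion_of_surjective _
  -- facts about the components
  letI ov : ∀ i, (W i).Over (Spec (CommRingCat.of k)) := fun i => ⟨f i ≫ (X ↘ Spec (CommRingCat.of k))⟩
  haveI hp : ∀ i, IsProper (W i ↘ Spec (CommRingCat.of k)) := fun i =>
    inferInstanceAs (IsProper (f i ≫ (X ↘ Spec (CommRingCat.of k))))
  have hW1 : ∀ i, Subsingleton (Coh.HH (W i) (Coh.structureModule (W i)) 1) := fun i =>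
    (Groth.L21.CurveAdj.isSmRatComp_iff hd hgen (E i) (hE i)).1 (hsm _ (hE i))
  have hX' : Pi1.IsNormalScheme X' := fun y => by
    obtain ⟨i, a, rfl⟩ := hsurjι y
    haveI := Groth.L21.CurveAdj.isIntegral_IC (E i) (hE i)
    obtain ⟨e, he⟩ := Groth.L21.RR.exists_iso_projLine_of_isAlgClosed (X := W i) k
      (dim_component hd hgen (E i) (hE i)).1 (Groth.L21.RR.h_eq_zero_of_subsingleton k (hW1 i))
    haveI : Smooth (CohB1.ProjSpace.toSpec 1 k) := Groth.L16.ProjSpace.smooth_toSpec (n := 1) (R := k)
    haveI : Smooth (W i ↘ Spec (CommRingCat.of k)) := by rw [← he]; infer_instance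
    haveI := Groth.L21.Smooth.isDomain_stalk (W i ↘ Spec (CommRingCat.of k)) a
    haveI := Groth.L21.Smooth.isIntegrallyClosed_stalk (W i ↘ Spec (CommRingCat.of k)) a
    let φ := (asIso ((Sigma.ι W i).stalkMap a)).commRingCatIsoToRingEquiv
    exact ⟨φ.toMulEquiv.isDomain, IsIntegrallyClosed.of_equiv φ.symm⟩
  refine ⟨finite_nodes k hX π rfl hdim hX' hU hU', ?_⟩
  have key := genus_formula k hdim π rfl hX hX' hU hU'
  rw [Nat.card_unique (α := _root_.ConnectedComponents X)] at key
  have hconn : ∀ i, ConnectedSpace (W i) := fun i => (component hgen (E i) (hE i)).2.1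
  have hclopen : ∀ i, IsClopen (Set.range (Sigma.ι W i)) := fun i =>
    ⟨(haveI := Groth.L05.ClopenSigma.isClosedImmersion_sigmaι W i
      (Sigma.ι W i).isClosedEmbedding.isClosed_range), (Sigma.ι W i).isOpenEmbedding.isOpen_range⟩
  have hdisj : ∀ {i j} {a : W i} {b : W j}, Sigma.ι W i a = Sigma.ι W j b → i = j := fun {i j a b} h =>
    (Sigma.mk.inj_iff.mp ((sigmaι_eq_iff W i j a b).mp h)).1
  have hcc : Nat.card (_root_.ConnectedComponents X') = (irreducibleComponents (X : Type u)).ncard := by
    have hpt : ∀ i, Nonempty (W i) := fun i => (hconn i).toNonempty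
    rw [← Nat.card_coe_set_eq, Nat.card_congr (eI.trans Equiv.ulift.{u}.symm)]
    refine (Nat.card_congr (Equiv.ofBijective
      (fun i => ConnectedComponents.mk (Sigma.ι W i (hpt i).some)) ⟨fun i j h => ?_, fun C => ?_⟩)).symm
    · have h1 := ConnectedComponents.coe_eq_coe'.1 h
      obtain ⟨a, ha⟩ := (hclopen j).connectedComponent_subset ⟨_, rfl⟩ h1
      exact (hdisj ha).symm
    · obtain ⟨y, rfl⟩ := ConnectedComponents.surjective_coe C
      obtain ⟨i, a, rfl⟩ := hsurjι y
      haveI := hconn i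
      refine ⟨i, ConnectedComponents.coe_eq_coe'.2 ?_⟩
      exact ((isPreconnected_univ (α := W i)).image _ (Sigma.ι W i).continuous.continuousOn).subset_connectedComponent
        ⟨a, trivial, rfl⟩ ⟨_, trivial, rfl⟩
  haveI := isReduced_of_normal hX'
  haveI : IsProper (X' ↘ Spec (CommRingCat.of k)) :=
    inferInstanceAs (IsProper (π ≫ (X ↘ Spec (CommRingCat.of k))))
  haveI := Groth.L21.RR.isNoetherian_of_proper (X := X') k
  have hd' : topologicalKrullDim X' ≤ 1 := by
    rw [Groth.L22.FibreDim.topologicalKrullDim_eq_iSup_closure]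
    refine iSup_le fun y => ?_
    obtain ⟨i, a, rfl⟩ := hsurjι y
    refine (Groth.L22.SchemeDim.topologicalKrullDim_mono
      (closure_minimal (t := Set.range (Sigma.ι W i)) (Set.singleton_subset_iff.2 ⟨a, rfl⟩) (hclopen i).1)).trans ?_
    rw [Groth.L22.SchemeDim.topologicalKrullDim_eq_of_isEmbedding (f := Sigma.ι W i)
      (Sigma.ι W i).isEmbedding rfl]
    exact (dim_component hd hgen (E i) (hE i)).1.le
  have hg0 : Curv2.genus k X' = 0 := by
    have hO : PicF.IsInvertible (Coh.structureModule X') := Groth.L18.Ample.isInvertible_structureModule X'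
    have hs : Subsingleton (Coh.HH X' (Coh.structureModule X') 1) := by
      refine Groth.L21.CurveAdj.subsingleton_h1_of_euler_lt (k := k) hd' hO fun J hJr hJc hJd => ?_
      haveI := hJr
      haveI := hJc
      rw [show degOn k (Coh.structureModule X') J = 0 by
        have h0 := Groth.L21.CurveAdj.degOn_pow (k := k) hd' hO J 0
        rw [Nat.cast_zero, zero_mul] at h0
        exact h0]
      obtain ⟨y₀⟩ := hJc.toNonempty
      obtain ⟨i, a₀, ha₀⟩ := hsurjι (J.subschemeι y₀)
      have hsub : Set.range J.subschemeι ⊆ Set.range (Sigma.ι W i) := by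
        rw [← Set.image_univ]
        exact (isPreconnected_univ.image _ J.subschemeι.continuous.continuousOn).subset_isClopen (hclopen i)
          ⟨_, ⟨y₀, trivial, rfl⟩, a₀, ha₀⟩
      let j := IsOpenImmersion.lift (Sigma.ι W i) J.subschemeι hsub
      have hfac : j ≫ Sigma.ι W i = J.subschemeι := IsOpenImmersion.lift_fac _ _ _
      haveI : IsClosedImmersion (j ≫ Sigma.ι W i) := by rw [hfac]; infer_instance
      haveI : IsClosedImmersion j := IsClosedImmersion.of_comp j (Sigma.ι W i)
      haveI : IsClosedImmersion (j ∣_ (⊤ : (W i).Opens)) :=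
        IsZariskiLocalAtTarget.restrict (P := @IsClosedImmersion) inferInstance ⊤
      letI : J.subscheme.Over (Spec (CommRingCat.of k)) := ⟨J.subschemeι ≫ (X' ↘ Spec (CommRingCat.of k))⟩
      haveI : IsProper (J.subscheme ↘ Spec (CommRingCat.of k)) :=
        inferInstanceAs (IsProper (J.subschemeι ≫ (X' ↘ Spec (CommRingCat.of k))))
      have hjk : j ≫ (W i ↘ Spec (CommRingCat.of k)) = J.subscheme ↘ Spec (CommRingCat.of k) := by
        show j ≫ f i ≫ (X ↘ Spec (CommRingCat.of k)) = J.subschemeι ≫ π ≫ (X ↘ Spec (CommRingCat.of k))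
        rw [← hfac, Category.assoc, reassoc_of% (hι i)]
      have hle := Groth.L21.RR.genus_le_of_closedImmersion_over_dense (f := j) k
        (dim_component hd hgen (E i) (hE i)).1.le hjk (U := ⊤) (by simp)
      haveI := hW1 i
      rw [show Curv2.genus k (W i) = 0 from Module.finrank_zero_of_subsingleton] at hle
      rw [Groth.L21.RR.euler_eq k hJd.le,
        show h k 1 (Coh.structureModule J.subscheme) = 0 from Nat.le_zero.1 hle,
        Groth.L21.CurveAdj.h0_eq_one_of_connected]
      norm_num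
    exact Module.finrank_zero_of_subsingleton
  rw [hcc, hg0] at key
  omega

include hdimX hX in
/-- A connected nodal curve has genus zero iff it is a tree of projective lines. -/
theorem genus_eq_zero_iff :
    Curv2.genus k X = 0 ↔
      ((∀ E ∈ irreducibleComponents (X : Type u), CurvSt.IsSmRatComp k X (X ↘ Spec (CommRingCat.of k)) E) ∧
        {x : X | Curv2.IsNode k X x}.encard + 1 = (irreducibleComponents (X : Type u)).encard) := by
  haveI := Groth.L21.RR.isNoetherian_of_proper (X := X) k
  have hdim := dim_components k hdimX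
  haveI := isReduced_of_atWorstNodal k hdim hX
  have hgen : ∀ z : X, ∃ w, ¬ IsClosed ({w} : Set X) ∧ w ⤳ z := Groth.L21.CurveDual.exists_nonclosed_gen hdimX
  have hfinC : (irreducibleComponents (X : Type u)).Finite := NoetherianSpace.finite_irreducibleComponents
  have key : ∀ (hfin : Finite {x : X // Curv2.IsNode k X x}),
      ({x : X | Curv2.IsNode k X x}.encard + 1 = (irreducibleComponents (X : Type u)).encard ↔
        Nat.card {x : X // Curv2.IsNode k X x} + 1 = (irreducibleComponents (X : Type u)).ncard) := fun hfin => by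
    have hn : {x : X | Curv2.IsNode k X x}.Finite := Set.finite_coe_iff.1 hfin
    rw [← hn.cast_ncard_eq, ← hfinC.cast_ncard_eq,
      show Nat.card {x : X // Curv2.IsNode k X x} = {x : X | Curv2.IsNode k X x}.ncard from Nat.card_coe_set_eq _]
    exact_mod_cast Iff.rfl
  constructor
  · intro hg
    have hsm : ∀ E ∈ irreducibleComponents (X : Type u),
        CurvSt.IsSmRatComp k X (X ↘ Spec (CommRingCat.of k)) E := fun E hE => by
      refine (Groth.L21.CurveAdj.isSmRatComp_iff hdimX.le hgen E hE).2 ?_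
      letI : (IC E hE).subscheme.Over (Spec (CommRingCat.of k)) :=
        ⟨(IC E hE).subschemeι ≫ (X ↘ Spec (CommRingCat.of k))⟩
      haveI : IsProper ((IC E hE).subscheme ↘ Spec (CommRingCat.of k)) :=
        inferInstanceAs (IsProper ((IC E hE).subschemeι ≫ (X ↘ Spec (CommRingCat.of k))))
      haveI := Groth.L21.RR.isNoetherian_of_proper (X := (IC E hE).subscheme) k
      haveI := Groth.L21.RR.finite_HH' k (Groth.L16.CohClosedPush.isCoh_structure (X := (IC E hE).subscheme)) 1
      have h1 := Groth.L21.RedCurve.Pts.h1_subscheme_le (k := k) hdimX.le (IC E hE)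
      rw [hg, Nat.le_zero] at h1
      exact Module.finrank_zero_iff.1 h1
    obtain ⟨hfin, heq⟩ := genus_add_card k hdimX hX hsm
    refine ⟨hsm, (key hfin).2 ?_⟩
    omega
  · rintro ⟨hsm, hcard⟩
    obtain ⟨hfin, heq⟩ := genus_add_card k hdimX hX hsm
    have := (key hfin).1 hcard
    omega

end Groth.L21.NormRed
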