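import Groth.Agent.L21.Nodal.CurveLike
import Groth.Agent.L21.Nodal.Reduced
import Groth.Agent.L22.FibreDim
import Groth.Agent.L20.FlatGeneric
import Groth.Prelude.Def_Curv2
import Mathlib.AlgebraicGeometry.Morphisms.Affine
import Mathlib.AlgebraicGeometry.Morphisms.QuasiFinite

/-!
A finite morphism of reduced schemes bijective on generic points with trivial residue extensions is an isomorphism
over a dense open.
-/

set_option autoImplicit false
set_option backward.isDefEq.respectTransparency false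
set_option linter.style.haveILetI false
universe u

open AlgebraicGeometry CategoryTheory TopologicalSpace

noncomputable section

namespace Groth.L21.NormRed

variable {X X' : Scheme.{u}} (π : X' ⟶ X) [IsFinite π] [IsReduced X] [IsReduced X']
  (hbij : Set.BijOn (fun x' : X' => π x') (genericPoints X') (genericPoints X))

omit [IsFinite π] [IsReduced X'] in
include hbij in
theorem app_injective_of_generic (V : X.Opens) : Function.Injective (π.app V).hom := by
  refine (injective_iff_map_eq_zero _).2 fun a ha => (basicOpen_eq_bot_iff a).1 ?_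
  refine Opens.ext (Set.eq_empty_iff_forall_notMem.2 fun x hx => ?_)
  obtain ⟨η, hηx, hmax⟩ := Groth.L22.FibreDim.exists_maximal_specializes x
  obtain ⟨η', -, he⟩ := hbij.surjOn ((Groth.L20.mem_genericPoints_iff η).2 hmax)
  have h1 : η' ∈ π ⁻¹ᵁ X.basicOpen a := by
    show π η' ∈ X.basicOpen a
    rw [show π η' = η from he]
    exact hηx.mem_open (X.basicOpen a).2 hx
  rw [Scheme.preimage_basicOpen, show (π.app V) a = 0 from ha, Scheme.basicOpen_zero] at h1
  exact h1.elim

omit [IsReduced X] [IsReduced X'] in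
include hbij in
theorem eq_of_image_generic {η : X} {η' y : X'} (hη : η ∈ genericPoints X) (hη' : η' ∈ genericPoints X')
    (he : π η' = η) (hy : π y ⤳ η) : y = η' := by
  have hyη : π y = η := (Groth.L20.mem_genericPoints_iff η).1 hη _ hy
  obtain ⟨ζ, hζy, hmax⟩ := Groth.L22.FibreDim.exists_maximal_specializes y
  have hζ : π ζ = η := (Groth.L20.mem_genericPoints_iff η).1 hη _ ((hζy.map π.continuous).trans hy)
  obtain rfl : ζ = η' := hbij.injOn ((Groth.L20.mem_genericPoints_iff ζ).2 hmax) hη' (hζ.trans he.symm)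
  exact (Groth.L21.Nodal.eq_of_isDiscrete (π.isDiscrete_preimage_singleton (π y)) (hζ.trans hyη.symm) rfl hζy).symm

variable (hres : ∀ x' ∈ genericPoints X', Function.Bijective (π.residueFieldMap x').hom)

set_option maxHeartbeats 800000 in
omit [IsReduced X] in
include hbij hres in
theorem exists_denominator {V : X.Opens} (hV : IsAffineOpen V) {η : X} (hη : η ∈ genericPoints X) (hηV : η ∈ V) :
    ∃ t : Γ(X, V), η ∈ X.basicOpen t ∧
      ∀ b : Γ(X', π ⁻¹ᵁ V), ∃ r, (π.app V).hom t * b = (π.app V).hom r := by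
  classical
  have hV' : IsAffineOpen (π ⁻¹ᵁ V) := hV.preimage π
  letI algB : Algebra Γ(X, V) Γ(X', π ⁻¹ᵁ V) := (π.app V).hom.toAlgebra
  haveI : Module.Finite Γ(X, V) Γ(X', π ⁻¹ᵁ V) := π.finite_app V hV
  obtain ⟨η', hη', he⟩ := hbij.surjOn hη
  change π η' = η at he
  subst he
  let p := (hV.primeIdealOf ⟨π η', hηV⟩).asIdeal
  let q := (hV'.primeIdealOf ⟨η', hηV⟩).asIdeal
  letI algA := TopCat.Presheaf.algebra_section_stalk X.presheaf (⟨π η', hηV⟩ : V)
  letI algO := TopCat.Presheaf.algebra_section_stalk X'.presheaf (⟨η', hηV⟩ : (π ⁻¹ᵁ V : X'.Opens))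
  haveI : IsLocalization.AtPrime (X.presheaf.stalk (π η')) p := hV.isLocalization_stalk ⟨π η', hηV⟩
  haveI : IsLocalization.AtPrime (X'.presheaf.stalk η') q := hV'.isLocalization_stalk ⟨η', hηV⟩
  -- the only prime of `B` over a generization of `η`
  have huniq : ∀ Q : PrimeSpectrum Γ(X', π ⁻¹ᵁ V), Q.asIdeal.comap (π.app V).hom ≤ p → Q.asIdeal = q := by
    intro Q hQ
    have h2 := congr($(IsAffineOpen.SpecMap_appLE_fromSpec π hV hV' le_rfl) Q)
    rw [Scheme.Hom.comp_apply, Scheme.Hom.comp_apply, ← Scheme.Hom.app_eq_appLE] at h2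
    have hspec : π (hV'.fromSpec Q) ⤳ π η' := by
      rw [← h2]
      exact (((PrimeSpectrum.le_iff_specializes _ _).1 hQ).map hV.fromSpec.continuous).trans
        (specializes_of_eq (hV.fromSpec_primeIdealOf ⟨π η', hηV⟩))
    have h3 := eq_of_image_generic π hbij hη hη' rfl hspec
    have h4 : Q = hV'.primeIdealOf ⟨η', hηV⟩ := hV'.fromSpec.isOpenEmbedding.injective
      (h3.trans (hV'.fromSpec_primeIdealOf ⟨η', hηV⟩).symm)
    exact congrArg PrimeSpectrum.asIdeal h4
  have hkill : ∀ x ∈ q, ∃ t : Γ(X, V), t ∉ p ∧ (π.app V).hom t * x = 0 := by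
    intro x hx
    have hfield : IsField (X'.presheaf.stalk η') :=
      Groth.L21.Nodal.isField_stalk_of_maximal η' ((Groth.L20.mem_genericPoints_iff η').1 hη')
    have h0 : algebraMap Γ(X', π ⁻¹ᵁ V) (X'.presheaf.stalk η') x =
        algebraMap Γ(X', π ⁻¹ᵁ V) (X'.presheaf.stalk η') 0 := by
      rw [map_zero]
      have h5 := (IsLocalization.AtPrime.to_map_mem_maximal_iff (X'.presheaf.stalk η') q x).2 hx
      rwa [IsLocalRing.isField_iff_maximalIdeal_eq.1 hfield, Ideal.mem_bot] at h5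
    obtain ⟨⟨c, hc⟩, hcx⟩ := (IsLocalization.eq_iff_exists q.primeCompl _).1 h0
    rw [mul_zero] at hcx
    let J : Ideal Γ(X', π ⁻¹ᵁ V) := LinearMap.ker (LinearMap.mulLeft Γ(X', π ⁻¹ᵁ V) x)
    have hJ : ¬ Disjoint (J : Set Γ(X', π ⁻¹ᵁ V)) (p.primeCompl.map (π.app V).hom : Submonoid _) := by
      intro hd
      obtain ⟨Q, hQ, hJQ, hQd⟩ := Ideal.exists_le_prime_disjoint J (p.primeCompl.map (π.app V).hom) hd
      have hQq : Q = q := huniq ⟨Q, hQ⟩ fun z hz => by
        by_contra hzp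
        exact Set.disjoint_left.1 hQd hz ⟨z, hzp, rfl⟩
      exact hc (hQq ▸ hJQ (show x * c = 0 by rw [mul_comm]; exact hcx))
    obtain ⟨_, hxJ, t, ht, rfl⟩ := Set.not_disjoint_iff.1 hJ
    exact ⟨t, ht, by rw [mul_comm]; exact hxJ⟩
  have hone : ∀ b, ∃ t : Γ(X, V), t ∉ p ∧ ∃ r, (π.app V).hom t * b = (π.app V).hom r := by
    intro b
    obtain ⟨w, hw⟩ := (hres η' hη').2 (X'.evaluation (π ⁻¹ᵁ V) η' hηV b)
    obtain ⟨a, rfl⟩ := IsLocalRing.residue_surjective w
    obtain ⟨⟨r, s⟩, hrs⟩ := IsLocalization.surj p.primeCompl a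
    let x := (π.app V).hom s * b - (π.app V).hom r
    have hx : x ∈ q := by
      rw [← IsLocalization.AtPrime.to_map_mem_maximal_iff (X'.presheaf.stalk η') q, ← IsLocalRing.ker_residue,
        RingHom.mem_ker]
      show (X'.evaluation (π ⁻¹ᵁ V) η' hηV).hom x = 0
      rw [map_sub, map_mul, ← hw]
      erw [← Scheme.evaluation_naturality_apply π η' hηV (s : Γ(X, V)),
        ← Scheme.evaluation_naturality_apply π η' hηV r]
      rw [mul_comm]
      erw [← map_mul, sub_eq_zero]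
      refine congrArg _ ?_
      show IsLocalRing.residue _ a * IsLocalRing.residue _ (algebraMap _ _ (s : Γ(X, V))) =
        IsLocalRing.residue _ (algebraMap _ _ r)
      rw [← map_mul, hrs]
    obtain ⟨t, ht, htx⟩ := hkill x hx
    refine ⟨t * s, mul_mem (show t ∈ p.primeCompl from ht) s.2, t * r, ?_⟩
    have h6 : (π.app V).hom t * ((π.app V).hom s * b - (π.app V).hom r) = 0 := htx
    rw [map_mul, map_mul]
    linear_combination h6
  choose t ht r hr using hone
  obtain ⟨G, hG⟩ := (Module.Finite.fg_top (R := Γ(X, V)) (M := Γ(X', π ⁻¹ᵁ V)))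
  refine ⟨∏ b ∈ G, t b, ?_, fun b => ?_⟩
  · have hp : ∏ b ∈ G, t b ∈ p.primeCompl := prod_mem fun b _ => ht b
    rw [Scheme.mem_basicOpen X _ _ hηV]
    exact IsLocalization.map_units (X.presheaf.stalk (π η')) (⟨_, hp⟩ : p.primeCompl)
  · have hb : b ∈ Submodule.span Γ(X, V) (G : Set Γ(X', π ⁻¹ᵁ V)) := hG ▸ Submodule.mem_top
    induction hb using Submodule.span_induction with
    | mem g hg =>
      refine ⟨(∏ b ∈ G.erase g, t b) * r g, ?_⟩
      rw [← Finset.mul_prod_erase G t hg, map_mul, map_mul, ← hr g]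
      ring
    | zero => exact ⟨0, by simp⟩
    | add x y _ _ hx hy =>
      obtain ⟨c, hc⟩ := hx
      obtain ⟨d, hd⟩ := hy
      exact ⟨c + d, by rw [mul_add, hc, hd, map_add]⟩
    | smul a x _ hx =>
      obtain ⟨c, hc⟩ := hx
      refine ⟨a * c, ?_⟩
      rw [map_mul, ← hc]
      show _ * ((π.app V).hom a * x) = _
      ring

include hbij hres in
/-- Iso over a dense open. -/
theorem exists_dense_isIso :
    ∃ U : X.Opens, Dense (U : Set X) ∧ Dense ((π ⁻¹ᵁ U : X'.Opens) : Set X') ∧ IsIso (π ∣_ U) := by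
  classical
  have hone : ∀ η ∈ genericPoints X, ∃ D : X.Opens, η ∈ D ∧ IsIso (π ∣_ D) := by
    intro η hη
    obtain ⟨_, ⟨V, hV, rfl⟩, hηV, -⟩ :=
      X.isBasis_affineOpens.exists_subset_of_mem_open (Set.mem_univ η) isOpen_univ
    obtain ⟨t, hηt, ht⟩ := exists_denominator π hbij hres hV hη hηV
    refine ⟨X.basicOpen t, hηt, (isIso_morphismRestrict_iff_isIso_app π (hV.basicOpen t)).2 ?_⟩
    rw [ConcreteCategory.isIso_iff_bijective]
    refine ⟨app_injective_of_generic π hbij _, fun b => ?_⟩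
    have hV' : IsAffineOpen (π ⁻¹ᵁ V) := hV.preimage π
    have hle : π ⁻¹ᵁ X.basicOpen t ≤ π ⁻¹ᵁ V := π.preimage_mono (X.basicOpen_le t)
    letI : Algebra Γ(X', π ⁻¹ᵁ V) Γ(X', π ⁻¹ᵁ X.basicOpen t) :=
      (X'.presheaf.map (homOfLE hle).op).hom.toAlgebra
    haveI := hV'.isLocalization_of_eq_basicOpen ((π.app V).hom t) (homOfLE hle) (π.preimage_basicOpen t)
    letI : Algebra Γ(X, V) Γ(X, X.basicOpen t) :=
      (X.presheaf.map (homOfLE (X.basicOpen_le t)).op).hom.toAlgebra
    haveI : IsLocalization.Away t Γ(X, X.basicOpen t) := hV.isLocalization_basicOpen t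
    obtain ⟨⟨b₀, _, n, rfl⟩, hb⟩ := IsLocalization.surj (Submonoid.powers ((π.app V).hom t)) b
    obtain ⟨r, hr⟩ := ht b₀
    refine ⟨IsLocalization.mk' Γ(X, X.basicOpen t) r (⟨t ^ (n + 1), n + 1, rfl⟩ : Submonoid.powers t), ?_⟩
    have h1 : ∀ s : Γ(X, V), (π.app (X.basicOpen t)).hom (algebraMap Γ(X, V) Γ(X, X.basicOpen t) s) =
        algebraMap Γ(X', π ⁻¹ᵁ V) Γ(X', π ⁻¹ᵁ X.basicOpen t) ((π.app V).hom s) := fun s =>
      congr($(π.naturality (homOfLE (X.basicOpen_le t)).op) s)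
    have hu := IsLocalization.map_units Γ(X', π ⁻¹ᵁ X.basicOpen t)
      (⟨(π.app V).hom t ^ (n + 1), n + 1, rfl⟩ : Submonoid.powers ((π.app V).hom t))
    refine hu.mul_left_inj.1 ?_
    have h2 := congrArg (π.app (X.basicOpen t)).hom (IsLocalization.mk'_spec Γ(X, X.basicOpen t) r
      (⟨t ^ (n + 1), n + 1, rfl⟩ : Submonoid.powers t))
    rw [map_mul, h1, h1, map_pow, ← hr, map_mul, ← hb] at h2
    show (π.app (X.basicOpen t)).hom _ * algebraMap _ _ ((π.app V).hom t ^ (n + 1)) =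
      b * algebraMap _ _ ((π.app V).hom t ^ (n + 1))
    refine h2.trans ?_
    simp only [pow_succ, map_mul, map_pow]
    ring
  choose D hD hDiso using hone
  refine ⟨⨆ η : genericPoints X, D η.1 η.2, fun x => ?_, fun y => ?_, ?_⟩
  · obtain ⟨η, hηx, hmax⟩ := Groth.L22.FibreDim.exists_maximal_specializes x
    have hη := (Groth.L20.mem_genericPoints_iff η).2 hmax
    exact closure_mono (Set.singleton_subset_iff.2 (Opens.mem_iSup.2 ⟨⟨η, hη⟩, hD η hη⟩)) hηx.mem_closure
  · obtain ⟨η', hηy, hmax⟩ := Groth.L22.FibreDim.exists_maximal_specializes y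
    have hη := hbij.mapsTo ((Groth.L20.mem_genericPoints_iff η').2 hmax)
    exact closure_mono (Set.singleton_subset_iff.2 (show η' ∈ π ⁻¹ᵁ _ from
      Opens.mem_iSup.2 ⟨⟨_, hη⟩, hD _ hη⟩)) hηy.mem_closure
  · refine (MorphismProperty.isomorphisms.iff _).1 (IsZariskiLocalAtTarget.of_iSup_eq_top
      (P := MorphismProperty.isomorphisms Scheme) (fun η : genericPoints X => (⨆ η : genericPoints X, D η.1 η.2).ι ⁻¹ᵁ D η.1 η.2) ?_ fun η => ?_)
    · refine top_le_iff.1 fun x _ => ?_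
      obtain ⟨η, hη⟩ := Opens.mem_iSup.1 x.2
      exact Opens.mem_iSup.2 ⟨η, hη⟩
    · refine (MorphismProperty.arrow_mk_iso_iff _ (morphismRestrictRestrict π _ _)).2 ?_
      rw [Scheme.Hom.image_preimage_eq_opensRange_inf, Scheme.Opens.opensRange_ι,
        inf_eq_right.2 (le_iSup (fun η : genericPoints X => D η.1 η.2) η)]
      exact (MorphismProperty.isomorphisms.iff _).2 (hDiso η.1 η.2)

end Groth.L21.NormRed
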