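import Groth.Agent.L21.NormRed.Coker
import Groth.Agent.L21.Disc.SuppLength
import Groth.Agent.L22.FibreDim
import Groth.Prelude.Def_Curv2

/-!
`χ(O_{X'}) = χ(O_X) + Σ [k(x) : k] δ_x` for the normalisation of a reduced proper curve.
-/

set_option autoImplicit false
set_option backward.isDefEq.respectTransparency false
set_option linter.style.haveILetI false

universe u

open AlgebraicGeometry CategoryTheory CategoryTheory.Limits TopologicalSpace
attribute [local instance] Curv2.resAlgebra

noncomputable section

namespace Groth.L21.NormRed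

open Groth.L21.RR (SuppClosed h st st_germ)

theorem dim_le_one_of_components {X : Scheme.{u}}
    (hequi : ∀ Z ∈ irreducibleComponents (X : Type u), topologicalKrullDim Z = 1) :
    topologicalKrullDim X ≤ 1 := by
  rw [Groth.L22.FibreDim.topologicalKrullDim_eq_iSup_closure]
  refine iSup_le fun x => ?_
  obtain ⟨Z, hZ, hxZ⟩ := exists_mem_irreducibleComponents_subset_of_isIrreducible _
    (isIrreducible_singleton (x := x)).closure
  exact (Groth.L22.SchemeDim.topologicalKrullDim_mono hxZ).trans (hequi Z hZ).le

theorem mono_unitToPush {X X' : Scheme.{u}} (π : X' ⟶ X) [IsFinite π] [IsReduced X] {U : X.Opens}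
    (hU : Dense (U : Set X)) [IsIso (π ∣_ U)] : Mono (ClSub.unitToPush π) := by
  refine (Scheme.Modules.toPresheaf X).mono_of_mono_map ?_
  haveI : ∀ W, Mono (((Scheme.Modules.toPresheaf X).map (ClSub.unitToPush π)).app W) := fun W =>
    ConcreteCategory.mono_of_injective _
      (Groth.L21.RR.app_injective_of_isIso_over_dense π hU W.unop)
  exact NatTrans.mono_of_mono_app _

variable (k : Type u) [Field k] {X X' : Scheme.{u}} [X.Over (Spec (CommRingCat.of k))]
  [X'.Over (Spec (CommRingCat.of k))] [IsProper (X ↘ Spec (CommRingCat.of k))] [IsReduced X]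
  (π : X' ⟶ X) [IsFinite π] (hπ : π ≫ (X ↘ Spec (CommRingCat.of k)) = X' ↘ Spec (CommRingCat.of k))
  (hd : topologicalKrullDim X ≤ 1) (hX' : Pi1.IsNormalScheme X') {U : X.Opens}
  (hU : Dense (U : Set X)) (hU' : Dense ((π ⁻¹ᵁ U : X'.Opens) : Set X')) [IsIso (π ∣_ U)]

set_option maxHeartbeats 800000 in
include hd hX' hU hU' hπ in
/-- The normalisation Euler formula, with the finite set of singular points made explicit. -/
theorem euler_formula :
    ∃ F : Finset X, (∀ x ∈ F, IsClosed ({x} : Set X)) ∧
      (∀ x, IsClosed ({x} : Set X) → x ∉ F → Curv2.deltaInv (X.presheaf.stalk x) = 0) ∧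
      Curv2.euler k X' (Coh.structureModule X') = Curv2.euler k X (Coh.structureModule X) +
        ∑ x ∈ F, ((Module.finrank k (X.residueField x) : ℤ) *
          ((Curv2.deltaInv (X.presheaf.stalk x)).toNat : ℤ)) := by
  classical
  haveI := Groth.L21.RR.isNoetherian_of_proper (X := X) k
  haveI : IsLocallyNoetherian X' := LocallyOfFiniteType.isLocallyNoetherian π
  haveI : X.IsSeparated := ⟨by rw [← terminal.comp_from (X ↘ Spec (CommRingCat.of k))]; infer_instance⟩
  haveI : IsClosedImmersion (π ∣_ U) := inferInstance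
  have hO := Groth.L16.CohClosedPush.isCoh_structure (X := X)
  have hP := Groth.L21.RR.isCoh_push_structure π
  let u := ClSub.unitToPush π
  have hQ := (Groth.L16.CohKernel.isCoh_kernel_cokernel hO hP u).2
  have hs : SuppClosed (cokernel u) := Groth.L21.RR.suppClosed_cokernel_unitToPush hd hU
  haveI : Mono u := mono_unitToPush π hU
  have hS : (ShortComplex.mk u (cokernel.π u) (cokernel.condition u)).ShortExact :=
    { exact := ShortComplex.exact_cokernel u }
  have hzero : ∀ x ∈ U, Subsingleton ((cokernel u).presheaf.stalk x) := fun x hx => by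
    by_contra hne
    refine (Groth.L03.Euler.notMem_support_cokernel_iff u).2 ?_ hne
    intro v
    obtain ⟨W, hxW, t, rfl⟩ := TopCat.Presheaf.exists_germ_eq
      ((Scheme.Modules.pushforward π).obj (Coh.structureModule X')).presheaf v
    haveI := Groth.L07.BlowLib.isIso_app_of_le π (C := U) inferInstance (W ⊓ U) inf_le_right
    obtain ⟨a, ha⟩ := (ConcreteCategory.bijective_of_isIso (π.app (W ⊓ U))).2
      (Groth.L18.Frame.rs ((Scheme.Modules.pushforward π).obj (Coh.structureModule X'))
        (inf_le_left : W ⊓ U ≤ W) t)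
    refine ⟨(Coh.structureModule X).presheaf.germ (W ⊓ U) x ⟨hxW, hx⟩ a, ?_⟩
    show st (ClSub.unitToPush π) x _ = _
    rw [st_germ, ← Groth.L20.ModStalk.germ_rs (M := (Scheme.Modules.pushforward π).obj (Coh.structureModule X'))
      (inf_le_left : W ⊓ U ≤ W) ⟨hxW, hx⟩ t]
    exact congrArg _ ha
  have hfin : ((U : Set X)ᶜ).Finite := Groth.L18.Curve.finite_of_forall_isClosed U.2.isClosed_compl
    fun x hx => by
      by_contra hc
      exact hx (Groth.L21.RR.mem_of_dense_of_not_isClosed hd hU hc)
  refine ⟨hfin.toFinset, fun x hx => ?_, fun x _ hx => ?_, ?_⟩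
  · by_contra hc
    exact (hfin.mem_toFinset.1 hx) (Groth.L21.RR.mem_of_dense_of_not_isClosed hd hU hc)
  · rw [← length_stalk_cokernel π hX' hU hU' x, Module.length_eq_zero_iff]
    exact hzero x (not_not.1 fun h => hx (hfin.mem_toFinset.2 h))
  have key := Groth.L21.RR.euler_add k hd hS hO hP hQ
  dsimp only at key
  rw [Groth.L21.RR.euler_eq_h0_of_suppClosed k hs] at key
  rw [show Curv2.euler k X' (Coh.structureModule X') = Curv2.euler k X ((Coh.push π).obj (Coh.structureModule X'))
    from (Groth.L03.Euler.euler_push π (Coh.structureModule X') Groth.L16.CohClosedPush.isCoh_structure.1 hπ).symm]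
  refine key.trans (congrArg _ ?_)
  rw [Groth.L21.Disc.h0_eq_sum_length k hQ hfin.toFinset (fun x hx => by
      by_contra hc
      exact (hfin.mem_toFinset.1 hx) (Groth.L21.RR.mem_of_dense_of_not_isClosed hd hU hc))
    (fun x hx => hzero x (not_not.1 fun h => hx (hfin.mem_toFinset.2 h)))]
  rw [Nat.cast_sum]
  refine Finset.sum_congr rfl fun x _ => ?_
  rw [length_stalk_cokernel π hX' hU hU' x, Nat.cast_mul, mul_comm]

end Groth.L21.NormRed
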