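import Mathlib.Algebra.Module.LocalizedModule.Basic
import Mathlib.RingTheory.IntegralClosure.IntegrallyClosed
import Mathlib.RingTheory.IntegralClosure.Algebra.Basic
import Mathlib.RingTheory.Localization.FractionRing
import Mathlib.RingTheory.Localization.AtPrime.Basic
import Mathlib.RingTheory.Ideal.Maximal
import Mathlib.RingTheory.Finiteness.Basic

/-!
The normalisation of a reduced ring, localised at a prime, is the integral closure of the localisation in
its total ring of fractions.
-/

set_option autoImplicit false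

universe u

noncomputable section

namespace Groth.L21.NormRed

variable {R B : Type u} [CommRing R] [CommRing B] [Algebra R B]

/-- `B` is a birational extension of `R`: it is `f`-power torsion over the image of `R`. -/
theorem exists_hom (f : R) (hinj : Function.Injective (algebraMap R B))
    (hgen : ∀ b : B, ∃ (n : ℕ) (r : R), algebraMap R B f ^ n * b = algebraMap R B r)
    {F : Type u} [CommRing F] (g : R →+* F) (hf : IsUnit (g f)) :
    ∃ ι : B →+* F, ι.comp (algebraMap R B) = g ∧
      ∀ b n r, algebraMap R B f ^ n * b = algebraMap R B r → g f ^ n * ι b = g r := by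
  choose n r hr using hgen
  let v : B → F := fun b => ↑((hf.pow (n b)).unit⁻¹) * g (r b)
  have hv : ∀ b, g f ^ n b * v b = g (r b) := fun b => by
    show g f ^ n b * (↑((hf.pow (n b)).unit⁻¹) * g (r b)) = g (r b)
    rw [← mul_assoc, IsUnit.mul_val_inv, one_mul]
  have key : ∀ b m s, algebraMap R B f ^ m * b = algebraMap R B s → g f ^ m * v b = g s := by
    intro b m s h
    have h2 : f ^ n b * s = f ^ m * r b := hinj (by
      rw [map_mul, map_mul, map_pow, map_pow, ← h, ← hr b]; ring)
    refine ((hf.pow (n b)).mul_right_inj).1 ?_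
    have h3 := congrArg g h2
    rw [map_mul, map_mul, map_pow, map_pow] at h3
    rw [h3, ← hv b]
    ring
  have hcomp : ∀ a, v (algebraMap R B a) = g a := fun a => by
    simpa using key (algebraMap R B a) 0 a (by simp)
  refine ⟨{ toFun := v
            map_one' := by simpa using hcomp 1
            map_zero' := by simpa using hcomp 0
            map_mul' := fun b c => ?_
            map_add' := fun b c => ?_ }, RingHom.ext hcomp, key⟩
  · refine ((hf.pow (n b + n c)).mul_right_inj).1 ?_
    rw [key (b * c) (n b + n c) (r b * r c) (by rw [map_mul, ← hr b, ← hr c]; ring), map_mul,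
      ← hv b, ← hv c]
    ring
  · refine ((hf.pow (n b + n c)).mul_right_inj).1 ?_
    rw [key (b + c) (n b + n c) (f ^ n c * r b + f ^ n b * r c)
      (by simp only [map_add, map_mul, map_pow]; rw [← hr b, ← hr c]; ring)]
    simp only [map_add, map_mul, map_pow]
    rw [← hv b, ← hv c]
    ring

variable (p : Ideal R) [p.IsPrime] (A : Type u) [CommRing A] [Algebra R A] [IsLocalization.AtPrime A p]

set_option maxHeartbeats 800000 in
/-- The normalisation localised at `p` is the integral closure of `R_p` in its total fraction ring. -/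
theorem exists_isLocalizedModule_integralClosure [Module.Finite R B] (f : R)
    (hfR : f ∈ nonZeroDivisors R) (hfB : algebraMap R B f ∈ nonZeroDivisors B)
    (hinj : Function.Injective (algebraMap R B))
    (hgen : ∀ b : B, ∃ (n : ℕ) (r : R), algebraMap R B f ^ n * b = algebraMap R B r)
    (hnorm : ∀ (Q : Ideal B) [Q.IsPrime], IsDomain (Localization.AtPrime Q) ∧
      IsIntegrallyClosed (Localization.AtPrime Q)) :
    ∃ ι : B →ₗ[R] integralClosure A (FractionRing A), IsLocalizedModule p.primeCompl ι ∧ ι 1 = 1 := by
  classical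
  let F := FractionRing A
  let j : R →+* A := algebraMap R A
  let g : R →+* F := algebraMap R F
  have hg : ∀ x, g x = algebraMap A F (j x) := fun x => IsScalarTower.algebraMap_apply R A F x
  have hjf : j f ∈ nonZeroDivisors A :=
    IsLocalization.map_nonZeroDivisors_le p.primeCompl A ⟨f, hfR, rfl⟩
  have hgf : IsUnit (g f) := by
    rw [hg]; exact IsLocalization.map_units F (⟨j f, hjf⟩ : nonZeroDivisors A)
  obtain ⟨ι₀, hι, hkey⟩ := exists_hom f hinj hgen g hgf
  let ιa : B →ₐ[R] F := { ι₀ with commutes' := RingHom.congr_fun hι }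
  let ι : B →ₗ[R] integralClosure A F :=
    { toFun := fun b => ⟨ι₀ b, ((IsIntegral.of_finite R b).map ιa).tower_top⟩
      map_add' := fun b c => Subtype.ext (map_add ι₀ b c)
      map_smul' := fun a b => Subtype.ext (map_smul ιa a b) }
  have hpm : ∀ (Q : Ideal B), Q.comap (algebraMap R B) ≤ p → ∀ t : p.primeCompl,
      algebraMap R B t.1 ∉ Q := fun Q hQ t h => t.2 (hQ h)
  refine ⟨ι, ⟨fun t => ?_, fun z => ?_, fun {b b'} h => ?_⟩, Subtype.ext (map_one ι₀)⟩
  · obtain ⟨w, hw⟩ := IsLocalization.map_units A t
    refine (Module.End.isUnit_iff _).2 (Function.bijective_iff_has_inverse.2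
      ⟨fun y => (↑w⁻¹ : A) • y, fun y => ?_, fun y => ?_⟩)
    · show (↑w⁻¹ : A) • ((t : R) • y) = y
      rw [← algebraMap_smul A (t : R) y, ← hw, smul_smul, Units.inv_mul, one_smul]
    · show (t : R) • ((↑w⁻¹ : A) • y) = y
      rw [← algebraMap_smul A (t : R) ((↑w⁻¹ : A) • y), ← hw, smul_smul, Units.mul_inv, one_smul]
  · obtain ⟨⟨r₁, r₂, hr₂⟩, hz⟩ := IsLocalization.surj (nonZeroDivisors A) (z : F)
    obtain ⟨⟨a₁, s₁⟩, ha₁⟩ := IsLocalization.surj p.primeCompl r₁
    obtain ⟨⟨a₂, s₂⟩, ha₂⟩ := IsLocalization.surj p.primeCompl r₂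
    let u := a₂ * (s₁ : R)
    let v := a₁ * (s₂ : R)
    have hu : j u ∈ nonZeroDivisors A := by
      show algebraMap R A (a₂ * (s₁ : R)) ∈ _
      rw [map_mul, ← ha₂]
      exact mul_mem (mul_mem hr₂ (IsLocalization.map_units A s₂).mem_nonZeroDivisors)
        (IsLocalization.map_units A s₁).mem_nonZeroDivisors
    have huv : (z : F) * g u = g v := by
      simp only [u, v, hg, j, map_mul]
      rw [← ha₁, ← ha₂, map_mul, map_mul]
      linear_combination (algebraMap A F (algebraMap R A s₁) * algebraMap A F (algebraMap R A s₂)) * hz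
    clear_value u v
    have hloc : ∀ (Q : Ideal B) [Q.IsPrime], Q.comap (algebraMap R B) ≤ p →
        ∃ c ∉ Q, ∃ b, c * algebraMap R B v = b * algebraMap R B u := by
      intro Q _ hQ
      obtain ⟨hD, hIC⟩ := hnorm Q
      let O := Localization.AtPrime Q
      let K := FractionRing O
      let φ : A →+* O := IsLocalization.lift (M := p.primeCompl) (g := algebraMap R O) fun t => by
        rw [IsScalarTower.algebraMap_apply R B O]
        exact IsLocalization.map_units O (⟨_, hpm Q hQ t⟩ : Q.primeCompl)
      have hφ : ∀ x, φ (j x) = algebraMap B O (algebraMap R B x) := fun x =>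
        (IsLocalization.lift_eq _ x).trans (IsScalarTower.algebraMap_apply R B O x)
      have hne : ∀ a ∈ nonZeroDivisors A, φ a ≠ 0 := by
        intro a ha h0
        obtain ⟨⟨r, s⟩, has⟩ := IsLocalization.surj p.primeCompl a
        have hr : j r ∈ nonZeroDivisors A := by
          show algebraMap R A r ∈ _
          rw [← has]
          exact mul_mem ha (IsLocalization.map_units A s).mem_nonZeroDivisors
        have h1 : algebraMap B O (algebraMap R B r) = algebraMap B O 0 := by
          rw [← hφ, show j r = a * algebraMap R A s from has.symm, map_mul, h0, zero_mul, map_zero]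
        obtain ⟨⟨c, hc⟩, hcr⟩ := (IsLocalization.eq_iff_exists Q.primeCompl O).1 h1
        rw [mul_zero] at hcr
        obtain ⟨m, w, hw⟩ := hgen c
        have hwr : w * r = 0 := hinj (by
          rw [map_mul, ← hw, map_zero, mul_assoc]
          exact mul_eq_zero_of_right _ hcr)
        have hjw : j w = j 0 := by
          rw [map_zero]
          exact (mem_nonZeroDivisors_iff_right.1 hr) _ (by rw [← map_mul, hwr, map_zero])
        obtain ⟨t, ht⟩ := (IsLocalization.eq_iff_exists p.primeCompl A).1 hjw
        rw [mul_zero] at ht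
        have htc : algebraMap R B t * c = 0 := by
          refine (mem_nonZeroDivisors_iff_right.1 (pow_mem hfB m)) _ ?_
          rw [mul_assoc, mul_comm c, hw, ← map_mul, ht, map_zero]
        exact ((inferInstance : Q.IsPrime).mem_or_mem (htc ▸ Q.zero_mem)).elim (hpm Q hQ t) hc
      let ψ : F →+* K := IsLocalization.lift (M := nonZeroDivisors A) (g := (algebraMap O K).comp φ)
        fun s => isUnit_iff_ne_zero.2 fun h =>
          hne _ s.2 (IsFractionRing.injective O K (h.trans (map_zero _).symm))
      have hψ : ∀ a, ψ (algebraMap A F a) = algebraMap O K (φ a) := fun a => IsLocalization.lift_eq _ a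
      obtain ⟨o, ho⟩ := IsIntegrallyClosed.isIntegral_iff.1
        (IsIntegral.map_of_comp_eq φ ψ (RingHom.ext fun a => (hψ a).symm) z.2)
      have ho' : o * algebraMap B O (algebraMap R B u) = algebraMap B O (algebraMap R B v) := by
        apply IsFractionRing.injective O K
        rw [map_mul, ho, ← hφ, ← hφ, ← hψ, ← hψ, ← map_mul, ← hg, ← hg, huv]
      obtain ⟨⟨b, c⟩, hbc⟩ := IsLocalization.surj Q.primeCompl o
      obtain ⟨d, hd⟩ := (IsLocalization.eq_iff_exists Q.primeCompl O
        (x := b * algebraMap R B u) (y := c * algebraMap R B v)).1 (by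
          rw [map_mul, map_mul, ← hbc, ← ho']; ring)
      exact ⟨d * c, mul_mem d.2 c.2, d * b, by rw [mul_assoc, mul_assoc, hd]⟩
    let J : Ideal B := Submodule.comap (LinearMap.mulLeft B (algebraMap R B v))
      (Ideal.span {algebraMap R B u})
    have hJ : ¬ Disjoint (J : Set B) (p.primeCompl.map (algebraMap R B) : Submonoid B) := by
      intro hd
      obtain ⟨Q, hQ, hJQ, hQd⟩ := Ideal.exists_le_prime_disjoint J (p.primeCompl.map (algebraMap R B)) hd
      haveI := hQ
      obtain ⟨c, hc, b, hcb⟩ := hloc Q fun x hx => by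
        by_contra hxp
        exact Set.disjoint_left.1 hQd hx ⟨x, hxp, rfl⟩
      refine hc (hJQ (Ideal.mem_span_singleton.2 ⟨b, ?_⟩))
      show algebraMap R B v * c = algebraMap R B u * b
      rw [mul_comm, hcb, mul_comm]
    obtain ⟨_, hxJ, t, ht, rfl⟩ := Set.not_disjoint_iff.1 hJ
    obtain ⟨b, hb⟩ := Ideal.mem_span_singleton.1 hxJ
    refine ⟨(b, ⟨t, ht⟩), Subtype.ext ?_⟩
    show t • (z : F) = ι₀ b
    have hgu : IsUnit (g u) := by
      rw [hg]; exact IsLocalization.map_units F (⟨j u, hu⟩ : nonZeroDivisors A)
    refine hgu.mul_left_inj.1 ?_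
    have h1 : ι₀ (algebraMap R B v * algebraMap R B t) = ι₀ (algebraMap R B u * b) := congrArg ι₀ hb
    rw [map_mul, map_mul, show ∀ x, ι₀ (algebraMap R B x) = g x from RingHom.congr_fun hι,
      show ι₀ (algebraMap R B t) = g t from RingHom.congr_fun hι t,
      show ι₀ (algebraMap R B u) = g u from RingHom.congr_fun hι u] at h1
    rw [Algebra.smul_def, mul_assoc, huv, mul_comm, show algebraMap R F t = g t from rfl, h1, mul_comm]
  · have h0 : ι₀ (b - b') = 0 := by
      rw [map_sub, sub_eq_zero]
      exact congrArg Subtype.val h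
    obtain ⟨m, w, hw⟩ := hgen (b - b')
    have h1 := hkey _ _ _ hw
    rw [h0, mul_zero, hg] at h1
    have h2 : j w = j 0 := by
      rw [map_zero]
      exact IsFractionRing.injective A F (h1.symm.trans (map_zero _).symm)
    obtain ⟨t, ht⟩ := (IsLocalization.eq_iff_exists p.primeCompl A).1 h2
    rw [mul_zero] at ht
    refine ⟨t, sub_eq_zero.1 ?_⟩
    show (t : R) • b - (t : R) • b' = 0
    rw [← smul_sub, Algebra.smul_def]
    refine (mem_nonZeroDivisors_iff_right.1 (pow_mem hfB m)) _ ?_
    rw [mul_assoc, mul_comm (b - b'), hw, ← map_mul, ht, map_zero]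

end Groth.L21.NormRed
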