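import Groth.Agent.L21.NormRed.BiratOpen
import Groth.Agent.L21.NormRed.Nodal
import Groth.Agent.L21.Curve.NormalConnected
import Groth.Agent.L22.Norm.GeomBranch
import Groth.Prelude.Def_Brnch

/-!
Arithmetic genus against branches: `δ_x ≥ m_x - 1`, with equality exactly at ordinary points.
-/

set_option autoImplicit false
set_option backward.isDefEq.respectTransparency false
set_option linter.style.haveILetI false
set_option maxSynthPendingDepth 3
universe u

open CategoryTheory CategoryTheory.Limits AlgebraicGeometry TopologicalSpace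
attribute [local instance] Curv2.resAlgebra

noncomputable section

namespace Groth.L21.NormRed

set_option maxHeartbeats 800000 in
set_option synthInstance.maxHeartbeats 200000 in
theorem numBranches_bounds (A : Type u) [CommRing A] [IsLocalRing A] [_root_.IsReduced A] (hN : CAlg.IsNagata A) :
    1 ≤ Brnch.numBranches A ∧ Brnch.numBranches A ≤ Curv2.deltaInv A + 1 := by
  classical
  haveI : IsNoetherianRing A := hN.1
  obtain ⟨e, -⟩ := Groth.L22.Norm.exists_normRed_linearEquiv A
  haveI := Groth.L22.Norm.finite_integralClosure A hN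
  haveI : Module.Finite A (CAlg2.normRed A) := Module.Finite.equiv e
  have hminfin : (minimalPrimes A).Finite := (⊥ : Ideal A).finite_minimalPrimes_of_isNoetherianRing A
  haveI : Algebra.IsIntegral A (CAlg2.normRed A) := Algebra.IsIntegral.of_finite A (CAlg2.normRed A)
  rw [Brnch.numBranches, if_pos hminfin]
  haveI : Nontrivial (CAlg2.normRed A) := by
    haveI : Nontrivial (integralClosure A (FractionRing A)) :=
      ⟨⟨0, 1, fun h => zero_ne_one (α := A) (IsFractionRing.injective A (FractionRing A)
        (by simpa using congrArg Subtype.val h))⟩⟩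
    exact e.injective.nontrivial
  refine ⟨?_, le_trans ?_ (Groth.L22.Norm.numGeomBranches_le A hN)⟩
  · obtain ⟨m, hm⟩ := Ideal.exists_maximal (CAlg2.normRed A)
    haveI : Nonempty (MaximalSpectrum (CAlg2.normRed A)) := ⟨⟨m, hm⟩⟩
    exact ENat.one_le_iff_ne_zero.2 (by simp [ENat.card_eq_zero_iff_empty])
  rw [Brnch.numGeomBranches, if_pos hminfin]
  have hne : ∀ m : MaximalSpectrum (CAlg2.normRed A), Nonempty (Brnch.Emb A m) := fun m => by
    haveI := m.isMaximal
    have hlie : m.asIdeal.comap (algebraMap A (CAlg2.normRed A)) = IsLocalRing.maximalIdeal A :=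
      IsLocalRing.eq_maximalIdeal (Ideal.isMaximal_comap_of_isIntegral_of_isMaximal m.asIdeal)
    letI : Algebra (IsLocalRing.ResidueField A) (CAlg2.normRed A ⧸ m.asIdeal) :=
      RingHom.toAlgebra (R := IsLocalRing.ResidueField A) (S := CAlg2.normRed A ⧸ m.asIdeal)
      (show IsLocalRing.ResidueField A →+* CAlg2.normRed A ⧸ m.asIdeal from
        Ideal.Quotient.lift (IsLocalRing.maximalIdeal A)
          ((Ideal.Quotient.mk m.asIdeal).comp (algebraMap A (CAlg2.normRed A)))
          (fun a ha => Ideal.Quotient.eq_zero_iff_mem.2 (by rw [← hlie] at ha; exact ha)))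
    haveI : IsScalarTower A (IsLocalRing.ResidueField A) (CAlg2.normRed A ⧸ m.asIdeal) :=
      IsScalarTower.of_algebraMap_eq fun a => rfl
    letI : Field (CAlg2.normRed A ⧸ m.asIdeal) := Ideal.Quotient.field m.asIdeal
    haveI : Module.Finite (IsLocalRing.ResidueField A) (CAlg2.normRed A ⧸ m.asIdeal) :=
      Module.Finite.of_restrictScalars_finite A (IsLocalRing.ResidueField A) _
    let σ : (CAlg2.normRed A ⧸ m.asIdeal) →ₐ[IsLocalRing.ResidueField A]
        AlgebraicClosure (IsLocalRing.ResidueField A) := IsAlgClosed.lift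
    exact ⟨⟨σ.toRingHom, RingHom.ext fun a => σ.commutes (IsLocalRing.residue A a)⟩⟩
  exact ENat.card_le_card_of_injective (f := fun m => (⟨m, (hne m).some⟩ : Σ m, Brnch.Emb A m))
    fun m m' h => congrArg Sigma.fst h

theorem eq_of_maximal_normal {X : Scheme.{u}} (hX : Pi1.IsNormalScheme X) {a b x : X}
    (ha : a ∈ genericPoints X) (hb : b ∈ genericPoints X) (hax : a ⤳ x) (hbx : b ⤳ x) : a = b := by
  haveI := (hX x).1
  have h := Groth.L21.NormalTotal.eq_of_mem_irreducibleComponents x (Z₁ := closure {a}) (Z₂ := closure {b}) ha hb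
    hax.mem_closure hbx.mem_closure
  exact ((specializes_iff_closure_subset.2 h.ge).antisymm (specializes_iff_closure_subset.2 h.le)).eq

/-- The connected components of a normal Noetherian scheme are its irreducible components. -/
theorem card_connectedComponents_normal {X : Scheme.{u}} [IsNoetherian X] (hX : Pi1.IsNormalScheme X) :
    Nat.card (_root_.ConnectedComponents X) = Nat.card (irreducibleComponents (X : Type u)) := by
  refine (Nat.card_congr (Equiv.ofBijective
    (fun η : genericPoints X => ConnectedComponents.mk η.1) ⟨fun a b h => ?_, fun C => ?_⟩)).symm.trans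
      (Nat.card_congr genericPoints.equiv)
  · have hfin : (irreducibleComponents (X : Type u)).Finite := NoetherianSpace.finite_irreducibleComponents
    have hclopen : IsClopen (closure ({a.1} : Set X)) := by
      refine ⟨isClosed_closure, ?_⟩
      have he : closure ({a.1} : Set X) = (⋃ Z ∈ irreducibleComponents (X : Type u) \ {closure {a.1}}, Z)ᶜ := by
        ext x
        simp only [Set.mem_compl_iff, Set.mem_iUnion, not_exists, Set.mem_diff, Set.mem_singleton_iff]
        refine ⟨fun hx Z hZ hxZ => hZ.2 ?_, fun hx => ?_⟩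
        · obtain ⟨η, hη⟩ := QuasiSober.sober hZ.1.1 (isClosed_of_mem_irreducibleComponents Z hZ.1)
          have hηg : η ∈ genericPoints X := show closure {η} ∈ _ from hη.def.symm ▸ hZ.1
          rw [← hη.def, eq_of_maximal_normal hX a.2 hηg (specializes_iff_mem_closure.2 hx) (hη.specializes hxZ)]
        · obtain ⟨η, hηx, hmax⟩ := Groth.L22.FibreDim.exists_maximal_specializes x
          by_contra hxa
          refine hx (closure {η}) ⟨((Groth.L20.mem_genericPoints_iff η).2 hmax : closure {η} ∈ _), fun e => ?_⟩
            hηx.mem_closure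
          exact hxa (e ▸ hηx.mem_closure)
      rw [he]
      exact ((hfin.subset Set.diff_subset).isClosed_biUnion
        fun Z hZ => isClosed_of_mem_irreducibleComponents Z hZ.1).isOpen_compl
    have h1 := hclopen.connectedComponent_subset (subset_closure rfl) (ConnectedComponents.coe_eq_coe'.1 h.symm)
    exact Subtype.ext ((Groth.L20.mem_genericPoints_iff b.1).1 b.2 a.1 (specializes_iff_mem_closure.2 h1))
  · obtain ⟨x, rfl⟩ := ConnectedComponents.surjective_coe C
    obtain ⟨η, hηx, hmax⟩ := Groth.L22.FibreDim.exists_maximal_specializes x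
    exact ⟨⟨η, (Groth.L20.mem_genericPoints_iff η).2 hmax⟩, ConnectedComponents.coe_eq_coe'.2
      (isIrreducible_singleton.closure.isConnected.isPreconnected.subset_connectedComponent hηx.mem_closure
        (subset_closure rfl))⟩

variable (k : Type u) [Field k] [IsAlgClosed k] {X X' : Scheme.{u}} [X.Over (Spec (CommRingCat.of k))]
  [IsProper (X ↘ Spec (CommRingCat.of k))] [X'.Over (Spec (CommRingCat.of k))] [IsReduced X] [ConnectedSpace X]
  (hequi : ∀ Z ∈ irreducibleComponents (X : Type u), topologicalKrullDim Z = 1)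
  (π : X' ⟶ X) [IsFinite π] (hπ : π ≫ (X ↘ Spec (CommRingCat.of k)) = X' ↘ Spec (CommRingCat.of k))
  (hX' : Pi1.IsNormalScheme X') (hbij : Set.BijOn (fun x' : X' => π x') (genericPoints X') (genericPoints X))
  (hres : ∀ x' ∈ genericPoints X', Function.Bijective (π.residueFieldMap x').hom)

set_option maxHeartbeats 800000 in
open Classical in
include hequi hπ hX' hbij hres in
/-- The genus formula with branches holds iff all singular points are ordinary. -/
theorem genus_eq_iff_ordinary :
    ((Curv2.genus k X : ℤ) = (Curv2.genus k X' : ℤ) +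
        (∑ᶠ x : X, (if IsClosed ({x} : Set X) then (((Brnch.numBranchesAt X x).toNat : ℤ) - 1) else 0)) -
        (Nat.card (irreducibleComponents (X : Type u)) : ℤ) + 1) ↔
      ∀ x : X, IsClosed ({x} : Set X) → Curv2.deltaInv (X.presheaf.stalk x) + 1 = Brnch.numBranchesAt X x := by
  haveI := isReduced_of_normal hX'
  obtain ⟨U, hU, hU', hπU⟩ := exists_dense_isIso π hbij hres
  haveI := hπU
  have hd := dim_le_one_of_components hequi
  haveI := Groth.L21.RR.isNoetherian_of_proper (X := X) k
  haveI : IsLocallyNoetherian X' := LocallyOfFiniteType.isLocallyNoetherian π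
  haveI : X.IsSeparated := ⟨by rw [← terminal.comp_from (X ↘ Spec (CommRingCat.of k))]; infer_instance⟩
  haveI : IsProper (X' ↘ Spec (CommRingCat.of k)) := by rw [← hπ]; infer_instance
  haveI := Groth.L21.RR.isNoetherian_of_proper (X := X') k
  obtain ⟨F, hFc, hF0, he⟩ := euler_formula k π hπ hd hX' hU hU'
  rw [← Groth.L03.Euler.euler_push π (Coh.structureModule X') Groth.L16.CohClosedPush.isCoh_structure.1 hπ,
    Groth.L21.RR.euler_eq k hd, Groth.L21.RR.euler_eq k hd,
    Groth.L21.RR.h_push_structure π k hπ 0, Groth.L21.RR.h_push_structure π k hπ 1,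
    h0_structure_eq_card_connectedComponents, h0_structure_eq_card_connectedComponents,
    Nat.card_unique (α := _root_.ConnectedComponents X), card_connectedComponents_normal hX',
    ← Nat.card_congr (genericPoints.equiv (α := X')), Nat.card_congr (Set.BijOn.equiv _ hbij),
    Nat.card_congr (genericPoints.equiv (α := X))] at he
  change (_ : ℤ) - (Curv2.genus k X' : ℤ) = (_ : ℤ) - (Curv2.genus k X : ℤ) + _ at he
  have hdata : ∀ x : X, IsClosed ({x} : Set X) →
      1 ≤ Brnch.numBranchesAt X x ∧ Brnch.numBranchesAt X x ≤ Curv2.deltaInv (X.presheaf.stalk x) + 1 ∧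
        Curv2.deltaInv (X.presheaf.stalk x) < ⊤ := fun x hx => by
    haveI : IsNoetherianRing (X.presheaf.stalk x) := inferInstance
    have hN := Groth.L06.Multicross.isNagata_stalk' k (X := X) x
    exact ⟨(numBranches_bounds _ hN).1, (numBranches_bounds _ hN).2,
      Groth.L22.Norm.deltaInv_lt_top _ (Groth.L22.Norm.finite_integralClosure _ hN)
        (Groth.L06.Multicross.ringKrullDim_stalk_eq_one k hequi hx)⟩
  let d : X → ℤ := fun x => (Curv2.deltaInv (X.presheaf.stalk x)).toNat
  let m : X → ℤ := fun x => (Brnch.numBranchesAt X x).toNat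
  have hbound : ∀ x, IsClosed ({x} : Set X) → 1 ≤ m x ∧ m x ≤ d x + 1 ∧
      (d x + 1 = m x ↔ Curv2.deltaInv (X.presheaf.stalk x) + 1 = Brnch.numBranchesAt X x) := fun x hx => by
    obtain ⟨h1, h2, h3⟩ := hdata x hx
    obtain ⟨dd, hdd⟩ := ENat.ne_top_iff_exists.1 h3.ne
    rw [← hdd] at h2
    obtain ⟨mm, hmm⟩ := ENat.ne_top_iff_exists.1 (ne_top_of_le_ne_top (by simp) h2)
    simp only [d, m, ← hdd, ← hmm, ENat.toNat_natCast]
    rw [← hmm] at h1 h2
    norm_cast at h1 h2 ⊢
  have hout : ∀ x, IsClosed ({x} : Set X) → x ∉ F → m x = 1 ∧ d x = 0 := fun x hx hxF => by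
    have h0 : d x = 0 := by simp only [d, hF0 x hx hxF]; simp
    obtain ⟨h1, h2, -⟩ := hbound x hx
    exact ⟨by omega, h0⟩
  have hfs : (∑ᶠ x : X, (if IsClosed ({x} : Set X) then (((Brnch.numBranchesAt X x).toNat : ℤ) - 1) else 0)) =
      ∑ x ∈ F, (m x - 1) := by
    rw [finsum_eq_sum_of_support_subset _ (s := F) ?_]
    · exact Finset.sum_congr rfl fun x hx => if_pos (hFc x hx)
    · intro x hx
      by_contra hxF
      refine hx ?_
      by_cases hc : IsClosed ({x} : Set X)
      · simp only [hc, if_true]
        exact sub_eq_zero.2 (hout x hc hxF).1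
      · simp [hc]
  have hsum : ∑ x ∈ F, ((Module.finrank k (X.residueField x) : ℤ) *
      ((Curv2.deltaInv (X.presheaf.stalk x)).toNat : ℤ)) = ∑ x ∈ F, d x :=
    Finset.sum_congr rfl fun x hx => by
      rw [Groth.L21.RR.finrank_residueField_eq_one k (hFc x hx), Nat.cast_one, one_mul]
  rw [hsum] at he
  rw [hfs]
  have key : ((∑ x ∈ F, d x) = ∑ x ∈ F, (m x - 1)) ↔ ∀ x ∈ F, m x - 1 = d x := by
    rw [eq_comm]
    exact Finset.sum_eq_sum_iff_of_le fun x hx => by
      obtain ⟨-, h2, -⟩ := hbound x (hFc x hx)
      omega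
  constructor
  · intro h x hx
    rw [← (hbound x hx).2.2]
    by_cases hxF : x ∈ F
    · have := (key.1 (by omega)) x hxF
      omega
    · obtain ⟨h1, h0⟩ := hout x hx hxF
      omega
  · intro h
    have : ∀ x ∈ F, m x - 1 = d x := fun x hx => by
      have := ((hbound x (hFc x hx)).2.2).2 (h x (hFc x hx))
      omega
    have := key.2 this
    omega

end Groth.L21.NormRed
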